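import Cfsg.Agent.Lib.Char.Ortho
import Mathlib.RingTheory.SimpleModule.Basic
import Mathlib.GroupTheory.QuotientGroup.Basic
import Mathlib.GroupTheory.OrderOfElement

/-!
# The trace identity for an operator inverting an abelian odd section

* `asAlgebraHom_surjective`, `ext_of_irreducible`: density;
* `sum_trace_mul_eq`: if `M` commutes with `Φ H`, inverts `Φ K` on the fixed space of `L` and is `1` on
  the fixed space of `K`, then `|K| ∑_{h ∈ H} tr (M Φ h) = |L| ∑_g tr (Φ g)`;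
* `sum_trace_pair`: the case `Φ = ρ ⊗ ρ'^*`.
-/

set_option autoImplicit false

noncomputable section

namespace CfsgLib.CharBlocks.OddStep

open Module
open scoped TensorProduct

section density

variable {G : Type*} [Group G] {V : Type*} [AddCommGroup V] [Module ℂ V] [FiniteDimensional ℂ V]

theorem asAlgebraHom_surjective (σ : Representation ℂ G V) (hσ : σ.IsIrreducible) :
    Function.Surjective σ.asAlgebraHom := by
  classical
  intro f
  have hS : IsSimpleModule (MonoidAlgebra ℂ G) σ.asModule :=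
    σ.irreducible_iff_isSimpleModule_asModule.mp hσ
  let e := σ.asModuleEquiv
  let F : Module.End (Module.End (MonoidAlgebra ℂ G) σ.asModule) σ.asModule :=
    { toFun := fun m => e.symm (f (e m))
      map_add' := fun a b => by simp
      map_smul' := fun φ m => by
        obtain ⟨c, rfl⟩ := (IsSimpleModule.algebraMap_end_bijective_of_isAlgClosed ℂ
          (A := MonoidAlgebra ℂ G) (V := σ.asModule)).2 φ
        simp }
  let b := Module.finBasis ℂ σ.asModule
  obtain ⟨a, ha⟩ := jacobson_density (R := MonoidAlgebra ℂ G) (M := σ.asModule) F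
    (Finset.univ.image b)
  refine ⟨a, ?_⟩
  have h := b.ext (f₁ := Algebra.lsmul ℂ ℂ σ.asModule a)
    (f₂ := e.symm.toLinearMap ∘ₗ f ∘ₗ e.toLinearMap) fun n =>
      (ha _ (Finset.mem_image_of_mem _ (Finset.mem_univ n))).symm
  refine LinearMap.ext fun v => ?_
  have h2 := LinearMap.congr_fun h (e.symm v)
  simp only [Algebra.lsmul_coe, LinearMap.comp_apply, LinearEquiv.coe_coe,
    LinearEquiv.apply_symm_apply] at h2
  have h3 := congrArg e h2
  rw [LinearEquiv.apply_symm_apply, Representation.asModuleEquiv_map_smul,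
    LinearEquiv.apply_symm_apply] at h3
  exact h3

/-- Linear maps out of `End V` agreeing on an irreducible image are equal. -/
theorem ext_of_irreducible {σ : Representation ℂ G V} (hσ : σ.IsIrreducible) {X : Type*}
    [AddCommGroup X] [Module ℂ X] {f g : Module.End ℂ V →ₗ[ℂ] X} (h : ∀ k, f (σ k) = g (σ k)) :
    f = g := by
  refine LinearMap.ext fun A => ?_
  obtain ⟨a, rfl⟩ := asAlgebraHom_surjective σ hσ A
  induction a using MonoidAlgebra.induction_linear with
  | zero => simp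
  | add x y hx hy => simp [hx, hy]
  | single k r => simp [h]

theorem adjoin_range_eq_top {σ : Representation ℂ G V} (hσ : σ.IsIrreducible) :
    Algebra.adjoin ℂ (Set.range σ) = ⊤ := by
  refine eq_top_iff.mpr fun A hA => ?_
  clear hA
  obtain ⟨a, rfl⟩ := asAlgebraHom_surjective σ hσ A
  induction a using MonoidAlgebra.induction_linear with
  | zero => simp
  | add x y hx hy => rw [map_add]; exact add_mem hx hy
  | single k r =>
    rw [Representation.asAlgebraHom_single]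
    exact Subalgebra.smul_mem _ (Algebra.subset_adjoin (s := Set.range σ) ⟨k, rfl⟩) r

end density

variable {G : Type*} [Group G] [Fintype G] (K L H : Subgroup G) [Fintype K] [Fintype L] [Fintype H]

/-- Products `h * k` cover the group, each element `|L|` times. -/
theorem sum_mul_fibres (hcov : ∀ g : G, ∃ h ∈ H, ∃ k ∈ K, g = h * k) (hLK : L ≤ K) (hLH : L ≤ H)
    (hKH : ∀ x ∈ K, x ∈ H → x ∈ L) {X : Type*} [AddCommGroup X] [Module ℂ X] (f : G → X) :
    ∑ h : H, ∑ k : K, f ((h : G) * k) = (Nat.card L : ℂ) • ∑ g, f g := by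
  choose a ha b hb hab using hcov
  let e : G × L ≃ H × K :=
    { toFun := fun p => (⟨a p.1 * p.2, H.mul_mem (ha p.1) (hLH p.2.2)⟩,
        ⟨(p.2 : G)⁻¹ * b p.1, K.mul_mem (K.inv_mem (hLK p.2.2)) (hb p.1)⟩)
      invFun := fun q => ((q.1 : G) * q.2, ⟨(a ((q.1 : G) * q.2))⁻¹ * q.1, hKH _ (by
        have h1 := hab ((q.1 : G) * q.2)
        rw [show (a ((q.1 : G) * q.2))⁻¹ * (q.1 : G) = b ((q.1 : G) * q.2) * (q.2 : G)⁻¹ by
          rw [eq_mul_inv_iff_mul_eq, mul_assoc, inv_mul_eq_iff_eq_mul]; exact h1]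
        exact K.mul_mem (hb _) (K.inv_mem q.2.2)) (H.mul_mem (H.inv_mem (ha _)) q.1.2)⟩)
      left_inv := fun p => by
        have h1 : a p.1 * (p.2 : G) * ((p.2 : G)⁻¹ * b p.1) = p.1 := by
          rw [mul_assoc, mul_inv_cancel_left, ← hab]
        refine Prod.ext h1 (Subtype.ext ?_)
        show (a _)⁻¹ * (a p.1 * (p.2 : G)) = p.2
        rw [show a (a p.1 * (p.2 : G) * ((p.2 : G)⁻¹ * b p.1)) = a p.1 by rw [h1],
          inv_mul_cancel_left]
      right_inv := fun q => by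
        refine Prod.ext (Subtype.ext ?_) (Subtype.ext ?_)
        · show a _ * ((a ((q.1 : G) * q.2))⁻¹ * q.1) = q.1
          rw [mul_inv_cancel_left]
        · show ((a ((q.1 : G) * q.2))⁻¹ * (q.1 : G))⁻¹ * b _ = q.2
          rw [mul_inv_rev, inv_inv, mul_assoc, ← hab, inv_mul_cancel_left] }
  rw [← Fintype.sum_prod_type' (f := fun (h : H) (k : K) => f ((h : G) * k)), ← e.sum_comp,
    Fintype.sum_prod_type, Finset.smul_sum]
  refine Finset.sum_congr rfl fun g _ => ?_
  rw [Finset.sum_congr rfl fun l _ => show f ((e (g, l)).1 * (e (g, l)).2 : G) = f g by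
      show f (a g * (l : G) * ((l : G)⁻¹ * b g)) = f g
      rw [mul_assoc, mul_inv_cancel_left, ← hab],
    Finset.sum_const, Finset.card_univ, ← Nat.card_eq_fintype_card, Nat.cast_smul_eq_nsmul]

variable {W : Type*} [AddCommGroup W] [Module ℂ W] [FiniteDimensional ℂ W]

omit [Fintype L] in
/-- For `h` of the odd group acting on the abelian odd section, `a ↦ (a * a^h)⁻¹` is onto. -/
theorem exists_tau_eq [K.Normal] [L.Normal] (hab : ∀ a ∈ K, ∀ b ∈ K, a * b * a⁻¹ * b⁻¹ ∈ L)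
    (hodd : Odd (Nat.card G)) (h : G) {k : G} (hk : k ∈ K) :
    ∃ a ∈ K, ∃ l ∈ L, k = a⁻¹ * (h * a⁻¹ * h⁻¹) * l := by
  classical
  let π := QuotientGroup.mk' L
  let Q := K.map π
  have hcomm : ∀ x ∈ Q, ∀ y ∈ Q, x * y = y * x := by
    rintro _ ⟨a, ha, rfl⟩ _ ⟨b, hb, rfl⟩
    rw [← commutatorElement_eq_one_iff_mul_comm, ← map_commutatorElement]
    exact (QuotientGroup.eq_one_iff _).mpr (hab a ha b hb)
  let f : Q → Q := fun x => ⟨(x : G ⧸ L)⁻¹ * (π h * (x : G ⧸ L)⁻¹ * (π h)⁻¹), by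
    obtain ⟨a, ha, hx⟩ := x.2
    refine Q.mul_mem (Q.inv_mem x.2) ⟨h * a⁻¹ * h⁻¹, Subgroup.Normal.conj_mem ‹_› _ (K.inv_mem ha) h, ?_⟩
    rw [map_mul, map_mul, map_inv, map_inv, hx]⟩
  have hf : Function.Injective f := by
    intro x y hxy
    have h1 : (x : G ⧸ L)⁻¹ * (π h * (x : G ⧸ L)⁻¹ * (π h)⁻¹) =
        (y : G ⧸ L)⁻¹ * (π h * (y : G ⧸ L)⁻¹ * (π h)⁻¹) := congrArg Subtype.val hxy
    obtain ⟨b, hb, hby⟩ := y.2
    have hc1 : π h * (y : G ⧸ L)⁻¹ * (π h)⁻¹ ∈ Q :=
      ⟨h * b⁻¹ * h⁻¹, Subgroup.Normal.conj_mem ‹_› _ (K.inv_mem hb) h, by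
        rw [map_mul, map_mul, map_inv, map_inv, hby]⟩
    set r := (x : G ⧸ L) * (y : G ⧸ L)⁻¹ with hr
    -- the element `r` is inverted by `h`
    have h2 : π h * r * (π h)⁻¹ = r⁻¹ := by
      have h1' : π h * (x : G ⧸ L)⁻¹ * (π h)⁻¹ = r * (π h * (y : G ⧸ L)⁻¹ * (π h)⁻¹) := by
        rw [hr, mul_assoc (x : G ⧸ L) _ _, ← h1, mul_inv_cancel_left]
      have hrQ : r ∈ Q := hr ▸ Q.mul_mem x.2 (Q.inv_mem y.2)
      have h3 : π h * r * (π h)⁻¹ =
          (π h * (x : G ⧸ L)⁻¹ * (π h)⁻¹)⁻¹ * (π h * (y : G ⧸ L)⁻¹ * (π h)⁻¹) := by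
        rw [hr]; group
      rw [h3, h1', mul_inv_rev, mul_assoc, hcomm r⁻¹ (Q.inv_mem hrQ) _ hc1, inv_mul_cancel_left]
    have h4 : Commute (π h ^ 2) r := by
      have h5 : π h ^ 2 * r * (π h ^ 2)⁻¹ = r := by
        rw [pow_two, show π h * π h * r * (π h * π h)⁻¹ = π h * (π h * r * (π h)⁻¹) * (π h)⁻¹ by group,
          h2, show π h * r⁻¹ * (π h)⁻¹ = (π h * r * (π h)⁻¹)⁻¹ by group, h2, inv_inv]
      exact mul_inv_eq_iff_eq_mul.mp h5
    obtain ⟨j, hj⟩ := hodd
    have h6 : Commute (π h) r := by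
      have h7 : π h = (π h ^ 2) ^ (j + 1) := by
        rw [← map_pow, ← map_pow, ← pow_mul, show 2 * (j + 1) = Nat.card G + 1 by omega, pow_add,
          pow_card_eq_one', one_mul, pow_one]
      rw [h7]
      exact h4.pow_left _
    rw [h6.eq, mul_inv_cancel_right, eq_inv_iff_mul_eq_one, ← pow_two] at h2
    have h8 : r = 1 := by
      rw [← orderOf_eq_one_iff]
      have hd2 : orderOf r ∣ 2 := orderOf_dvd_of_pow_eq_one h2
      have hdn : orderOf r ∣ Nat.card G :=
        (orderOf_dvd_natCard r).trans (Subgroup.card_quotient_dvd_card L)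
      exact Nat.eq_one_of_dvd_coprimes (
        Nat.coprime_two_left.mpr ⟨j, hj⟩) hd2 hdn
    exact Subtype.ext (mul_inv_eq_one.mp h8)
  obtain ⟨x, hx⟩ := (Finite.injective_iff_surjective.mp hf) ⟨π k, ⟨k, hk, rfl⟩⟩
  obtain ⟨a, ha, hax⟩ := x.2
  refine ⟨a, ha, (a⁻¹ * (h * a⁻¹ * h⁻¹))⁻¹ * k, ?_, by rw [mul_inv_cancel_left]⟩
  rw [← QuotientGroup.eq_one_iff, ← QuotientGroup.mk'_apply]
  have h9 : (x : G ⧸ L)⁻¹ * (π h * (x : G ⧸ L)⁻¹ * (π h)⁻¹) = π k := congrArg Subtype.val hx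
  rw [← hax] at h9
  show π _ = 1
  simp only [map_mul, map_inv]
  rw [h9, inv_mul_cancel]

/-- The trace identity. -/
theorem sum_trace_mul_eq [K.Normal] [L.Normal] (hab : ∀ a ∈ K, ∀ b ∈ K, a * b * a⁻¹ * b⁻¹ ∈ L)
    (hodd : Odd (Nat.card G)) (hcov : ∀ g : G, ∃ h ∈ H, ∃ k ∈ K, g = h * k) (hLK : L ≤ K)
    (hLH : L ≤ H) (hKH : ∀ x ∈ K, x ∈ H → x ∈ L) (Φ : Representation ℂ G W) (M : Module.End ℂ W)
    (hMH : ∀ h ∈ H, M * Φ h = Φ h * M)
    (hMinv : ∀ k ∈ K, M * Φ k * (∑ l : L, Φ l) = Φ k⁻¹ * M * (∑ l : L, Φ l))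
    (hMK : M * (∑ k : K, Φ k) = ∑ k : K, Φ k) :
    (Nat.card K : ℂ) * ∑ h : H, LinearMap.trace ℂ W (M * Φ h) =
      (Nat.card L : ℂ) * ∑ g, LinearMap.trace ℂ W (Φ g) := by
  classical
  set SL := ∑ l : L, Φ l with hSL
  set SK := ∑ k : K, Φ k with hSK
  let tr := LinearMap.trace ℂ W
  have hconj : ∀ (N : Subgroup G) [N.Normal] [Fintype N] (g : G),
      Φ g * (∑ n : N, Φ n) = (∑ n : N, Φ n) * Φ g := by
    intro N _ _ g
    rw [Finset.mul_sum, Finset.sum_mul]
    refine Fintype.sum_equiv (MulAut.conjNormal g : MulAut N).toEquiv _ _ fun n => ?_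
    show _ = Φ ((MulAut.conjNormal g n : N) : G) * Φ g
    rw [MulAut.conjNormal_apply, ← map_mul, ← map_mul, inv_mul_cancel_right]
  have hLfix : ∀ l ∈ L, Φ l * SL = SL := by
    intro l hl
    rw [hSL, Finset.mul_sum]
    exact Fintype.sum_equiv (Equiv.mulLeft (⟨l, hl⟩ : L)) _ _ fun n => (map_mul Φ l n).symm
  have hKL : SK * SL = (Nat.card L : ℂ) • SK := by
    rw [hSL, Finset.mul_sum, Finset.sum_congr rfl fun (l : L) _ => show SK * Φ l = SK by
      rw [hSK, Finset.sum_mul]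
      exact Fintype.sum_equiv (Equiv.mulRight (⟨l, hLK l.2⟩ : K)) _ _ fun (n : K) =>
        (map_mul Φ (n : G) (l : G)).symm,
      Finset.sum_const, Finset.card_univ, ← Nat.card_eq_fintype_card, Nat.cast_smul_eq_nsmul]
  -- for each `h`
  have step : ∀ h ∈ H, (Nat.card K : ℂ) * tr (M * Φ h * SL) =
      (Nat.card L : ℂ) * tr (Φ h * SK) := by
    intro h hh
    set A := M * Φ h * SL with hA
    have hAl : ∀ l ∈ L, Φ l * A = A := by
      intro l hl
      rw [hA, ← mul_assoc, ← mul_assoc, ← hMH l (hLH hl), mul_assoc M, ← map_mul,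
        show l * h = h * (h⁻¹ * l * h) by group, map_mul, ← mul_assoc M, mul_assoc (M * Φ h),
        hLfix _ (by simpa using Subgroup.Normal.conj_mem ‹L.Normal› l hl h⁻¹)]
    have hAa : ∀ a ∈ K, A * Φ a = Φ (h * a⁻¹ * h⁻¹) * A := by
      intro a ha
      have hb := Subgroup.Normal.conj_mem ‹K.Normal› a ha h
      calc A * Φ a = M * (Φ h * Φ a) * SL := by
            rw [hA, mul_assoc (M * Φ h), hSL, ← hconj L a]; simp only [mul_assoc]
        _ = M * Φ (h * a * h⁻¹) * SL * Φ h := by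
            rw [show Φ h * Φ a = Φ (h * a * h⁻¹) * Φ h by rw [← map_mul, ← map_mul, inv_mul_cancel_right],
              mul_assoc _ SL (Φ h), hSL, ← hconj L h]
            simp only [mul_assoc]
        _ = Φ (h * a⁻¹ * h⁻¹) * A := by
            rw [hMinv _ hb, show (h * a * h⁻¹)⁻¹ = h * a⁻¹ * h⁻¹ by group, hA, mul_assoc _ SL,
              hSL, ← hconj L h]
            simp only [mul_assoc]
    have hconst : ∀ k : K, tr (Φ k * A) = tr A := by
      rintro ⟨k, hk⟩
      obtain ⟨a, ha, l, hl, rfl⟩ := exists_tau_eq K L hab hodd h hk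
      show tr (Φ (a⁻¹ * (h * a⁻¹ * h⁻¹) * l) * A) = _
      rw [map_mul Φ, mul_assoc (Φ _), hAl l hl, map_mul Φ, mul_assoc, ← hAa a ha]
      show LinearMap.trace ℂ W (Φ a⁻¹ * (A * Φ a)) = _
      rw [LinearMap.trace_mul_comm, mul_assoc, ← map_mul, mul_inv_cancel, map_one, mul_one]
    calc (Nat.card K : ℂ) * tr A = ∑ k : K, tr (Φ k * A) := by
          rw [Finset.sum_congr rfl fun k _ => hconst k, Finset.sum_const, Finset.card_univ,
            nsmul_eq_mul, Nat.card_eq_fintype_card]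
      _ = tr (SK * A) := by rw [hSK, Finset.sum_mul, map_sum]
      _ = _ := by
          show LinearMap.trace ℂ W _ = _
          have hLK' : SL * SK = SK * SL := by
            rw [hSK, Finset.mul_sum, Finset.sum_mul]
            exact Finset.sum_congr rfl fun k _ => (hconj L k).symm
          rw [LinearMap.trace_mul_comm, hA, mul_assoc (M * Φ h), hLK', hKL, mul_smul_comm, map_smul,
            smul_eq_mul, hMH h hh, mul_assoc, hMK]
  have hsumSL : ∑ h : H, M * Φ h * SL = (Nat.card L : ℂ) • ∑ h : H, M * Φ h := by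
    rw [hSL]
    simp only [Finset.mul_sum]
    rw [Finset.sum_comm, Finset.sum_congr rfl fun (l : L) _ =>
      show ∑ h : H, M * Φ h * Φ l = ∑ h : H, M * Φ h from
        Fintype.sum_equiv (Equiv.mulRight (⟨l, hLH l.2⟩ : H)) _ _ fun n => by
          rw [mul_assoc, ← map_mul]; rfl,
      Finset.sum_const, Finset.card_univ, ← Nat.card_eq_fintype_card, Nat.cast_smul_eq_nsmul]
  have hfib := sum_mul_fibres K L H hcov hLK hLH hKH (fun g => tr (Φ g))
  have h1 : (Nat.card K : ℂ) * ((Nat.card L : ℂ) * ∑ h : H, tr (M * Φ h)) =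
      (Nat.card L : ℂ) * ((Nat.card L : ℂ) * ∑ g, tr (Φ g)) := by
    calc (Nat.card K : ℂ) * ((Nat.card L : ℂ) * ∑ h : H, tr (M * Φ h))
        = ∑ h : H, (Nat.card K : ℂ) * tr (M * Φ h * SL) := by
          rw [← Finset.mul_sum, ← map_sum, ← map_sum, hsumSL, map_smul, smul_eq_mul]
      _ = ∑ h : H, (Nat.card L : ℂ) * tr (Φ h * SK) :=
          Finset.sum_congr rfl fun h _ => step h h.2
      _ = (Nat.card L : ℂ) * ∑ h : H, ∑ k : K, tr (Φ ((h : G) * k)) := by
          rw [Finset.mul_sum]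
          exact Finset.sum_congr rfl fun h _ => by simp only [hSK, Finset.mul_sum, map_sum, map_mul]
      _ = _ := by rw [hfib, smul_eq_mul]
  have hL0 : (Nat.card L : ℂ) ≠ 0 := CfsgLib.Char.card_ne_zero'
  rw [mul_left_comm] at h1
  exact mul_left_cancel₀ hL0 h1

/-- The identity for a pair of representations carrying a common operator. -/
theorem sum_trace_pair [K.Normal] [L.Normal] (hab : ∀ a ∈ K, ∀ b ∈ K, a * b * a⁻¹ * b⁻¹ ∈ L)
    (hodd : Odd (Nat.card G)) (hcov : ∀ g : G, ∃ h ∈ H, ∃ k ∈ K, g = h * k) (hLK : L ≤ K)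
    (hLH : L ≤ H) (hKH : ∀ x ∈ K, x ∈ H → x ∈ L) {U : Type*} [AddCommGroup U] [Module ℂ U]
    [FiniteDimensional ℂ U] {σ : Representation ℂ K U} (hσ : σ.IsIrreducible) (J : Module.End ℂ U)
    (hJ : J * J = 1)
    (hJinv : ∀ k : K, ∃ a ∈ Algebra.adjoin ℂ (σ '' {k : K | (k : G) ∈ L}),
      ∃ a' ∈ Algebra.adjoin ℂ (σ '' {k : K | (k : G) ∈ L}), a * a' = 1 ∧ J * σ k * J * σ k = a)
    {V V' : Type*} [AddCommGroup V] [Module ℂ V] [FiniteDimensional ℂ V] [AddCommGroup V']
    [Module ℂ V'] [FiniteDimensional ℂ V'] (ρ : Representation ℂ G V) (ρ' : Representation ℂ G V')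
    (π : Module.End ℂ U →ₐ[ℂ] Module.End ℂ V) (π' : Module.End ℂ U →ₐ[ℂ] Module.End ℂ V')
    (hπ : ∀ k : K, π (σ k) = ρ k) (hπ' : ∀ k : K, π' (σ k) = ρ' k)
    (hJH : ∀ h ∈ H, π J * ρ h = ρ h * π J) (hJH' : ∀ h ∈ H, π' J * ρ' h = ρ' h * π' J) :
    (Nat.card K : ℂ) * ∑ h : H, LinearMap.trace ℂ V (π J * ρ h) *
        LinearMap.trace ℂ V' (π' J * ρ' (h : G)⁻¹) =
      (Nat.card L : ℂ) * ∑ g, ρ.character g * ρ'.character g⁻¹ := by
  classical
  let D := Module.Dual ℂ V'
  let T : Module.End ℂ V' → Module.End ℂ D := fun f => Module.Dual.transpose (R := ℂ) f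
  have hT : ∀ f g, T (f * g) = T g * T f := fun f g => Module.Dual.transpose_comp f g
  have hT1 : T 1 = 1 := rfl
  let lft : Module.End ℂ U → Module.End ℂ (V ⊗[ℂ] D) := fun x => TensorProduct.map (π x) (1 : Module.End ℂ D)
  let rgt : Module.End ℂ U → Module.End ℂ (V ⊗[ℂ] D) := fun x =>
    TensorProduct.map (1 : Module.End ℂ V) (T (π' x))
  have hlr : ∀ x y, lft x * rgt y = rgt y * lft x := fun x y => by
    simp only [lft, rgt, ← TensorProduct.map_mul, mul_one, one_mul]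
  have hlm : ∀ x y, lft (x * y) = lft x * lft y := fun x y => by
    simp only [lft, ← TensorProduct.map_mul, map_mul, mul_one]
  have hrm : ∀ x y, rgt (x * y) = rgt y * rgt x := fun x y => by
    simp only [rgt, ← TensorProduct.map_mul, map_mul, hT, mul_one]
  let Φ : Representation ℂ G (V ⊗[ℂ] D) := ρ.tprod ρ'.dual
  let M : Module.End ℂ (V ⊗[ℂ] D) := lft J * rgt J
  have hΦ : ∀ k : K, Φ k = lft (σ k) * rgt (σ k⁻¹) := fun k => by
    simp only [lft, rgt, ← TensorProduct.map_mul, hπ, hπ', mul_one, one_mul]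
    rfl
  -- elements of the span act alike on both sides
  have hsame : ∀ (s : Set K) (P : Module.End ℂ (V ⊗[ℂ] D)), (∀ k ∈ s, Φ k * P = P) →
      ∀ x ∈ Algebra.adjoin ℂ (σ '' s), lft x * P = rgt x * P := by
    intro s P hP x hx
    induction hx using Algebra.adjoin_induction with
    | mem x hx =>
      obtain ⟨k, hk, rfl⟩ := hx
      conv_rhs => rw [← hP k hk, ← mul_assoc, hΦ, ← mul_assoc, ← hlr, mul_assoc (lft _),
        ← hrm, ← map_mul, inv_mul_cancel, map_one]
      congr 1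
      show lft (σ k) = lft (σ k) * TensorProduct.map 1 (T (π' 1))
      rw [map_one, hT1]
      simp only [lft, ← TensorProduct.map_mul, mul_one]
    | algebraMap r =>
      congr 1
      have hTs : T (algebraMap ℂ (Module.End ℂ V') r) = r • (1 : Module.End ℂ D) :=
        LinearMap.ext fun w => LinearMap.ext fun v => by
          show w (algebraMap ℂ (Module.End ℂ V') r v) = r • w v
          rw [Module.algebraMap_end_apply, map_smul]
      simp only [lft, rgt]
      rw [AlgHom.commutes, AlgHom.commutes, hTs, Algebra.algebraMap_eq_smul_one,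
        TensorProduct.map_smul_left, TensorProduct.map_smul_right]
    | add x y _ _ hx hy =>
      have e1 : lft (x + y) = lft x + lft y := by
        simp only [lft, map_add, TensorProduct.map_add_left]
      have e2 : rgt (x + y) = rgt x + rgt y := by
        simp only [rgt, map_add, T, TensorProduct.map_add_right]
      rw [e1, e2, add_mul, add_mul, hx, hy]
    | mul x y _ _ hx hy =>
      rw [hlm, hrm, mul_assoc, hy, ← mul_assoc, hlr, mul_assoc, hx, mul_assoc]
  have hfixK : ∀ k ∈ (Set.univ : Set K), Φ k * (∑ n : K, Φ n) = ∑ n : K, Φ n := by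
    intro k _
    rw [Finset.mul_sum]
    exact Fintype.sum_equiv (Equiv.mulLeft k) _ _ fun n => (map_mul Φ (k : G) n).symm
  have hfixL : ∀ k ∈ {k : K | (k : G) ∈ L}, Φ k * (∑ n : L, Φ n) = ∑ n : L, Φ n := by
    intro k hk
    rw [Finset.mul_sum]
    exact Fintype.sum_equiv (Equiv.mulLeft (⟨k, hk⟩ : L)) _ _ fun n => (map_mul Φ (k : G) n).symm
  have hMM : M * M = 1 := by
    show lft J * rgt J * (lft J * rgt J) = 1
    rw [mul_assoc, ← mul_assoc (rgt J), ← hlr, mul_assoc (lft J) (rgt J), ← mul_assoc, ← hlm, ← hrm, hJ]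
    simp only [lft, rgt, map_one, hT1, ← TensorProduct.map_mul, mul_one, TensorProduct.map_one]
  have key := sum_trace_mul_eq K L H hab hodd hcov hLK hLH hKH Φ M ?_ ?_ ?_
  · rw [show (∑ g, ρ.character g * ρ'.character g⁻¹) =
        ∑ g, LinearMap.trace ℂ (V ⊗[ℂ] D) (Φ g) from Finset.sum_congr rfl fun g _ => by
          show _ = (ρ.tprod ρ'.dual).character g
          rw [Representation.char_tensor, Pi.mul_apply, Representation.char_dual], ← key]
    congr 1
    refine Finset.sum_congr rfl fun h _ => ?_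
    show _ = LinearMap.trace ℂ _ (lft J * rgt J * TensorProduct.map (ρ h) (T (ρ' (h : G)⁻¹)))
    simp only [lft, rgt, ← TensorProduct.map_mul, mul_one, one_mul, ← hT]
    rw [LinearMap.trace_tensorProduct', LinearMap.trace_transpose', LinearMap.trace_mul_comm ℂ (ρ' _)]
  · intro h hh
    show lft J * rgt J * TensorProduct.map (ρ h) (T (ρ' h⁻¹)) =
      TensorProduct.map (ρ h) (T (ρ' h⁻¹)) * (lft J * rgt J)
    simp only [lft, rgt, ← TensorProduct.map_mul, mul_one, one_mul, ← hT, hJH h hh,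
      hJH' h⁻¹ (H.inv_mem hh)]
  · intro k hk
    obtain ⟨a, ha, a', ha', haa, hJk⟩ := hJinv ⟨k, hk⟩
    have ha'' : a' = σ (⟨k, hk⟩ : K)⁻¹ * J * σ (⟨k, hk⟩ : K)⁻¹ * J := by
      refine (left_inv_eq_right_inv (a := a) ?_ haa).symm
      rw [← hJk]
      simp only [mul_assoc]
      rw [← mul_assoc J J, hJ, one_mul, ← mul_assoc (σ _) (σ _), ← map_mul, inv_mul_cancel, map_one,
        one_mul, ← mul_assoc J J, hJ, one_mul, ← map_mul, inv_mul_cancel, map_one]
    have h1 : M * Φ k * M * Φ k = lft a * rgt a' := by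
      rw [ha'', ← hJk, show Φ k = lft (σ ⟨k, hk⟩) * rgt (σ (⟨k, hk⟩ : K)⁻¹) from hΦ ⟨k, hk⟩]
      simp only [M, lft, rgt, ← TensorProduct.map_mul, map_mul, hT, mul_one, one_mul, mul_assoc]
    have h2 : lft a * rgt a' * (∑ l : L, Φ l) = ∑ l : L, Φ l := by
      rw [hlr, mul_assoc, hsame _ _ hfixL a ha, ← mul_assoc, ← hrm, haa]
      simp only [rgt, map_one, hT1, TensorProduct.map_one, one_mul]
    rw [← h1] at h2
    calc M * Φ k * (∑ l : L, Φ l) = (M * Φ k) * (∑ l : L, Φ l) := rfl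
      _ = Φ k⁻¹ * M * (M * Φ k * M * Φ k * (∑ l : L, Φ l)) := by
          simp only [← mul_assoc]
          rw [mul_assoc (Φ k⁻¹) M M, hMM, mul_one, ← map_mul Φ k⁻¹ k, inv_mul_cancel, map_one,
            one_mul]
      _ = _ := by rw [h2]
  · have h3 : ∀ x, lft x * (∑ n : K, Φ n) = rgt x * (∑ n : K, Φ n) := fun x =>
      hsame _ _ hfixK x (by rw [Set.image_univ, adjoin_range_eq_top hσ]; trivial)
    show lft J * rgt J * _ = _
    rw [hlr, mul_assoc, h3, ← mul_assoc, ← hrm, hJ]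
    simp only [rgt, map_one, hT1, TensorProduct.map_one, one_mul]

end CfsgLib.CharBlocks.OddStep
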