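import Cfsg.Agent.Lib.CharBlocks.OddStep.Quad
import Cfsg.Agent.Lib.CharBlocks.OddStep.Identity
import Cfsg.Agent.Lib.Char.Equiv
import Cfsg.Agent.Lib.CharNormal.Basic
import Mathlib.Algebra.Algebra.Subalgebra.Operations
import Mathlib.RingTheory.TensorProduct.Maps
import Mathlib.RepresentationTheory.AlgebraRepresentation.Basic

/-!
# An involution inverting an abelian odd section in an invariant irreducible representation

`σ` is irreducible on `V`, its restriction to `N` is homogeneous, `K / N` is abelian of odd order.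

* `Split`, `exists_split`: every `σ k` is a product of an element centralising `σ N` and one in the
  algebra generated by `σ N`;
* `exists_inverter`: for coprime operators without fixed points on the dual of `K / N` there is an
  involution `J` centralising `σ N` with `J σ k J σ k` in that algebra, fixed by every automorphism
  commuting with the operators.
-/

set_option autoImplicit false

noncomputable section

namespace CfsgLib.CharBlocks.OddStep

open Module CfsgLib.Char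
open scoped TensorProduct

variable {K : Type*} [Group K] {V : Type*} [AddCommGroup V] [Module ℂ V]

/-- The algebra generated by `σ N`. -/
def algN (σ : Representation ℂ K V) (N : Subgroup K) : Subalgebra ℂ (Module.End ℂ V) :=
  Algebra.adjoin ℂ (σ '' {k | k ∈ N})

/-- The decomposition into the centraliser of `σ N` and the algebra generated by `σ N`. -/
structure Split (σ : Representation ℂ K V) (N : Subgroup K) : Prop where
  part : ∀ k, ∃ u : (Module.End ℂ V)ˣ, ∃ y ∈ algN σ N, ∃ y' ∈ algN σ N,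
    (∀ n ∈ N, Commute (u : Module.End ℂ V) (σ n)) ∧ y * y' = 1 ∧ σ k = (u : Module.End ℂ V) * y
  center : ∀ a ∈ algN σ N, (∀ n ∈ N, Commute a (σ n)) → ∃ c : ℂ, a = c • 1

theorem commute_algN {σ : Representation ℂ K V} {N : Subgroup K} {x : Module.End ℂ V}
    (h : ∀ n ∈ N, Commute x (σ n)) {a : Module.End ℂ V} (ha : a ∈ algN σ N) : Commute x a := by
  induction ha using Algebra.adjoin_induction with
  | mem a ha => obtain ⟨n, hn, rfl⟩ := ha; exact h n hn
  | algebraMap r => exact (Algebra.commutes r x).symm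
  | add a b _ _ ha hb => exact ha.add_right hb
  | mul a b _ _ ha hb => exact ha.mul_right hb

/-- A homogeneous restriction with invariant constituent splits. -/
theorem exists_split [Finite K] [FiniteDimensional ℂ V] (σ : Representation ℂ K V) (N : Subgroup K)
    [N.Normal] {e : ℕ} (he : 0 < e) {ϕ : N → ℂ} (hϕ : Cfsg.IsIrrCharacter N ϕ)
    (hres : ∀ n : N, σ.character n = e * ϕ n)
    (hinv : ∀ (k : K) (n n' : N), (n' : K) = k * n * k⁻¹ → ϕ n' = ϕ n) : Split σ N := by
  classical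
  have := Fintype.ofFinite N
  obtain ⟨m, ω, hω, rfl⟩ := hϕ
  let τ : Representation ℂ N (Fin e → ℂ) := 1
  let σN : Representation ℂ N V := σ.comp N.subtype
  obtain ⟨E⟩ := nonempty_equiv_of_character_eq (ω.tprod τ) σN (funext fun n => by
    rw [Representation.char_tensor, Pi.mul_apply]
    show ω.character n * LinearMap.trace ℂ _ (1 : Module.End ℂ (Fin e → ℂ)) = σ.character n
    rw [LinearMap.trace_one, Module.finrank_pi, Fintype.card_fin, hres, mul_comm])
  let πW : Module.End ℂ (Fin m → ℂ) →ₐ[ℂ] Module.End ℂ V :=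
    ((E.toLinearEquiv.conjAlgEquiv ℂ).toAlgHom).comp
      (Module.End.rTensorAlgHom ℂ (Fin m → ℂ) (Fin e → ℂ))
  have hπn : ∀ n : N, πW (ω n) = σ n := fun n => by
    show E.toLinearEquiv.conjAlgEquiv ℂ ((ω n).rTensor _) = σ n
    exact E.conj_apply_self n
  have hinj : Function.Injective πW := by
    refine (injective_iff_map_eq_zero πW).mpr fun X hX => ?_
    have h1 : X.rTensor (Fin e → ℂ) = 0 :=
      (E.toLinearEquiv.conjAlgEquiv ℂ).injective (hX.trans (map_zero _).symm)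
    refine LinearMap.ext fun w => ?_
    have h2 := congrArg (fun f : Module.End ℂ ((Fin m → ℂ) ⊗[ℂ] (Fin e → ℂ)) =>
      TensorProduct.rid ℂ _ (LinearMap.lTensor (Fin m → ℂ) (LinearMap.proj (⟨0, he⟩ : Fin e))
        (f (w ⊗ₜ fun _ => (1 : ℂ))))) h1
    simpa using h2
  have hrange : algN σ N = Subalgebra.map πW ⊤ := by
    rw [← adjoin_range_eq_top hω, AlgHom.map_adjoin, algN]
    congr 1
    ext x
    constructor
    · rintro ⟨k, hk, rfl⟩; exact ⟨ω ⟨k, hk⟩, ⟨_, rfl⟩, hπn _⟩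
    · rintro ⟨_, ⟨n, rfl⟩, rfl⟩; exact ⟨n, n.2, (hπn n).symm⟩
  have hmem : ∀ X, πW X ∈ algN σ N := fun X => hrange ▸ ⟨X, trivial, rfl⟩
  refine ⟨fun k => ?_, fun a ha hcomm => ?_⟩
  · let c : N →* N := (MulAut.conjNormal k : MulAut N).toMonoidHom
    let ω' : Representation ℂ N (Fin m → ℂ) := ω.comp c
    obtain ⟨F⟩ := nonempty_equiv_of_character_eq ω' ω (funext fun n =>
      hinv k n (c n) (MulAut.conjNormal_apply k n))
    let Q : Module.End ℂ (Fin m → ℂ) := F.toLinearEquiv.toLinearMap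
    let Q' : Module.End ℂ (Fin m → ℂ) := F.toLinearEquiv.symm.toLinearMap
    have hQQ : Q * Q' = 1 := LinearMap.ext fun v => F.toLinearEquiv.apply_symm_apply v
    have hQ'Q : Q' * Q = 1 := LinearMap.ext fun v => F.toLinearEquiv.symm_apply_apply v
    have hQ : ∀ n, Q * ω (c n) = ω n * Q := fun n => F.toIntertwiningMap.isIntertwining' n
    let y := πW Q'
    let y' := πW Q
    have hyy : y * y' = 1 := by rw [← map_mul, hQ'Q, map_one]
    have hy'y : y' * y = 1 := by rw [← map_mul, hQQ, map_one]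
    have hk : σ k * σ k⁻¹ = 1 := by rw [← map_mul, mul_inv_cancel, map_one]
    have hk' : σ k⁻¹ * σ k = 1 := by rw [← map_mul, inv_mul_cancel, map_one]
    refine ⟨⟨σ k * y', y * σ k⁻¹, ?_, ?_⟩, y, hmem _, y', hmem _, fun n hn => ?_, hyy, ?_⟩
    · rw [mul_assoc, ← mul_assoc y', hy'y, one_mul, hk]
    · rw [mul_assoc, ← mul_assoc (σ k⁻¹), hk', one_mul, hyy]
    · show σ k * y' * σ n = σ n * (σ k * y')
      have h1 : k⁻¹ * n * k ∈ N := by simpa using Subgroup.Normal.conj_mem ‹N.Normal› n hn k⁻¹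
      have h2 : y' * σ n = σ (k⁻¹ * n * k) * y' := by
        rw [← hπn ⟨n, hn⟩, ← hπn ⟨_, h1⟩, ← map_mul, ← map_mul, ← hQ]
        congr 3
        exact Subtype.ext (by rw [MulEquiv.coe_toMonoidHom, MulAut.conjNormal_apply]; group)
      rw [mul_assoc, h2, ← mul_assoc, ← map_mul, ← mul_assoc (σ n), ← map_mul]
      congr 2; group
    · show σ k = σ k * y' * y
      rw [mul_assoc, hy'y, mul_one]
  · obtain ⟨X, -, rfl⟩ := hrange ▸ ha
    have hX : ∀ n, X * ω n = ω n * X := fun n => hinj (by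
      rw [map_mul, map_mul, hπn]; exact hcomm n n.2)
    have := hω
    obtain ⟨c, hc⟩ := (Representation.IsIrreducible.algebraMap_intertwiningMap_bijective_of_isAlgClosed
      (k := ℂ) (ρ := ω)).2 ⟨X, fun n => hX n⟩
    refine ⟨c, ?_⟩
    have h3 : X = c • 1 := by
      have := congrArg Representation.IntertwiningMap.toLinearMap hc
      exact this.symm
    rw [h3, ← Algebra.algebraMap_eq_smul_one, ← Algebra.algebraMap_eq_smul_one]
    exact AlgHom.commutes πW c

variable [Fintype K] [FiniteDimensional ℂ V] {σ : Representation ℂ K V} {N : Subgroup K} [N.Normal]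
  {S : Type*} [Group S] [Finite S]

theorem commute_scalar (hσ : σ.IsIrreducible) (u : Module.End ℂ V)
    (h : ∀ k, u * σ k = σ k * u) : ∃ c : ℂ, u = c • 1 := by
  have := hσ
  obtain ⟨c, hc⟩ := (Representation.IsIrreducible.algebraMap_intertwiningMap_bijective_of_isAlgClosed
    (k := ℂ) (ρ := σ)).2 ⟨u, fun n => h n⟩
  exact ⟨c, (congrArg Representation.IntertwiningMap.toLinearMap hc).symm⟩

/-- The inverting involution. -/
theorem exists_inverter (hσ : σ.IsIrreducible) (hab : ∀ a b : K, a * b * a⁻¹ * b⁻¹ ∈ N)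
    (hodd : Odd N.index) (hsplit : Split σ N) (ψ : S →* MulAut K) (hstab : ∀ s, ∀ n ∈ N, ψ s n ∈ N)
    (hθ : ∀ s k, σ.character (ψ s k) = σ.character k) (hcop : (Nat.card S).Coprime N.index)
    (hfix : ∀ l : K →* ℂˣ, (∀ n ∈ N, l n = 1) → (∀ s k, l (ψ s k) = l k) → l = 1) :
    ∃ J : Module.End ℂ V, J * J = 1 ∧ (∀ n ∈ N, Commute J (σ n)) ∧
      (∀ k, ∃ a ∈ algN σ N, ∃ a' ∈ algN σ N, a * a' = 1 ∧ J * σ k * J * σ k = a) ∧
      ∀ β : MulAut K, (∀ s k, β (ψ s k) = ψ s (β k)) → (∀ n ∈ N, β n ∈ N) →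
        ∀ B : Module.End ℂ V →ₐ[ℂ] Module.End ℂ V, (∀ k, B (σ k) = σ (β k)) → B J = J := by
  classical
  let E := Module.End ℂ V
  -- parts
  let IsPart : Eˣ → K → Prop := fun u k => (∀ n ∈ N, Commute (u : E) (σ n)) ∧
    ∃ y ∈ algN σ N, ∃ y' ∈ algN σ N, y * y' = 1 ∧ σ k = (u : E) * y
  have hσmem : ∀ n ∈ N, σ n ∈ algN σ N := fun n hn => Algebra.subset_adjoin ⟨n, hn, rfl⟩
  have part_one : ∀ n ∈ N, IsPart 1 n := fun n hn => ⟨fun _ _ => Commute.one_left _, σ n, hσmem n hn,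
    σ n⁻¹, hσmem _ (N.inv_mem hn), by rw [← map_mul, mul_inv_cancel, map_one], by simp⟩
  have part_mul : ∀ u v k l, IsPart u k → IsPart v l → IsPart (u * v) (k * l) := by
    rintro u v k l ⟨hu, y, hy, y', hy', e1, e2⟩ ⟨hv, w, hw, w', hw', e3, e4⟩
    refine ⟨fun n hn => by rw [Units.val_mul]; exact (hu n hn).mul_left (hv n hn), y * w,
      mul_mem hy hw, w' * y', mul_mem hw' hy', ?_, ?_⟩
    · rw [mul_assoc, ← mul_assoc w, e3, one_mul, e1]
    · rw [map_mul, e2, e4, Units.val_mul, mul_assoc, ← mul_assoc y, ← (commute_algN hv hy).eq]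
      simp only [mul_assoc]
  have part_inv : ∀ u k, IsPart u k → IsPart u⁻¹ k⁻¹ := by
    rintro u k ⟨hu, y, hy, y', hy', e1, e2⟩
    have hu' : ∀ n ∈ N, Commute ((u⁻¹ : Eˣ) : E) (σ n) := fun n hn => (hu n hn).units_inv_left
    refine ⟨hu', y', hy', y, hy, mul_eq_one_comm.mp e1, ?_⟩
    rw [(commute_algN hu' hy').eq]
    refine left_inv_eq_right_inv (a := σ k) (by rw [← map_mul, inv_mul_cancel, map_one]) ?_
    rw [e2, mul_assoc, ← mul_assoc y, e1, one_mul, Units.mul_inv]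
  let Pt : Subgroup Eˣ :=
    { carrier := {u | ∃ k, IsPart u k}
      one_mem' := ⟨1, part_one 1 N.one_mem⟩
      mul_mem' := fun ⟨k, hk⟩ ⟨l, hl⟩ => ⟨k * l, part_mul _ _ k l hk hl⟩
      inv_mem' := fun ⟨k, hk⟩ => ⟨k⁻¹, part_inv _ k hk⟩ }
  let z : ℂˣ →* Pt := ((Units.map (algebraMap ℂ E).toMonoidHom).codRestrict Pt fun c => ⟨1,
    fun n _ => Algebra.commutes (c : ℂ) (σ n), algebraMap ℂ E (c⁻¹ : ℂˣ), Subalgebra.algebraMap_mem _ _,
    algebraMap ℂ E (c : ℂˣ), Subalgebra.algebraMap_mem _ _, by rw [← map_mul]; simp, by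
      show σ 1 = algebraMap ℂ E c * algebraMap ℂ E (c⁻¹ : ℂˣ)
      rw [← map_mul]; simp⟩)
  have hzval : ∀ c, (((z c : Pt) : Eˣ) : E) = algebraMap ℂ E c := fun _ => rfl
  have : Nontrivial V := by
    by_contra h
    rw [not_nontrivial_iff_subsingleton] at h
    have h1 := finrank_pos_of_irreducible σ (G := K)
    rw [Module.finrank_zero_of_subsingleton] at h1
    exact lt_irrefl 0 h1
  have hz : Function.Injective z := fun c c' h => Units.ext (FaithfulSMul.algebraMap_injective ℂ E (by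
    rw [← hzval, ← hzval, h]))
  have hzc : ∀ c u, z c * u = u * z c := fun c u =>
    Subtype.ext (Units.ext (Algebra.commutes (c : ℂ) ((u : Eˣ) : E)))
  have part_scal : ∀ (u : Pt) c k, IsPart u k → IsPart (z c * u : Pt) k := fun u c k hu => by
    have h1 := part_mul _ _ 1 k (show IsPart (z c : Pt) 1 from ⟨fun n _ => Algebra.commutes (c : ℂ) (σ n),
      algebraMap ℂ E (c⁻¹ : ℂˣ), Subalgebra.algebraMap_mem _ _, algebraMap ℂ E (c : ℂˣ),
      Subalgebra.algebraMap_mem _ _, by rw [← map_mul]; simp, by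
        rw [hzval, ← map_mul]; simp⟩) hu
    rwa [one_mul] at h1
  -- parts are unique up to scalars
  have part_unique : ∀ (u v : Pt) k, IsPart u k → IsPart v k → ∃ c, u = z c * v := by
    rintro u v k ⟨hu, y, hy, y', hy', e1, e2⟩ ⟨hv, w, hw, w', hw', e3, e4⟩
    set t : Eˣ := (v : Eˣ)⁻¹ * u with ht
    have htA : (t : E) ∈ algN σ N := by
      have h1 : (t : E) = w * y' := by
        rw [ht, Units.val_mul, Units.inv_mul_eq_iff_eq_mul, ← mul_assoc, ← e4, e2, mul_assoc, e1, mul_one]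
      exact h1 ▸ mul_mem hw hy'
    obtain ⟨c, hc⟩ := hsplit.center _ htA fun n hn => by
      rw [ht, Units.val_mul]; exact ((hv n hn).units_inv_left).mul_left (hu n hn)
    have hc0 : c ≠ 0 := by
      rintro rfl
      rw [zero_smul] at hc
      exact t.ne_zero hc
    refine ⟨Units.mk0 c hc0, Subtype.ext ?_⟩
    rw [hzc, Subgroup.coe_mul]
    refine inv_mul_eq_iff_eq_mul.mp (Units.ext ?_)
    rw [← ht, hc, hzval, Units.val_mk0, Algebra.algebraMap_eq_smul_one]
  have part_ex : ∀ k, ∃ u : Pt, IsPart u k := fun k => by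
    obtain ⟨u, y, hy, y', hy', hu, e1, e2⟩ := hsplit.part k
    exact ⟨⟨u, k, hu, y, hy, y', hy', e1, e2⟩, hu, y, hy, y', hy', e1, e2⟩
  have part_of : ∀ u : Pt, ∃ k, IsPart u k := fun u => u.2
  have part_mulN : ∀ (u : Pt) k n, IsPart u k → n ∈ N → IsPart u (k * n) := fun u k n hu hn => by
    have h1 := part_mul _ _ k n hu (part_one n hn)
    rwa [mul_one] at h1
  have hcomm : ∀ u v : Pt, ∃ c, u * v = z c * (v * u) := fun u v => by
    obtain ⟨k, hk⟩ := part_of u
    obtain ⟨l, hl⟩ := part_of v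
    refine part_unique _ _ (k * l) (part_mul _ _ k l hk hl) ?_
    have h1 := part_mulN (v * u) (l * k) _ (part_mul _ _ l k hl hk) (hab k⁻¹ l⁻¹)
    have e : l * k * (k⁻¹ * l⁻¹ * k⁻¹⁻¹ * l⁻¹⁻¹) = k * l := by group
    rwa [e] at h1
  have hn : ∀ u : Pt, ∃ c, u ^ N.index = z c := fun u => by
    obtain ⟨k, hk⟩ := part_of u
    have hp : ∀ j, IsPart (u ^ j : Pt) (k ^ j) := fun j => by
      induction j with
      | zero => rw [pow_zero, pow_zero]; exact part_one 1 N.one_mem
      | succ j ih => rw [pow_succ, pow_succ]; exact part_mul _ _ _ _ ih hk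
    obtain ⟨c, hc⟩ := part_unique _ 1 _ (hp N.index) (part_one _ (N.pow_index_mem k))
    exact ⟨c, by rw [hc, mul_one]⟩
  -- automorphisms act on parts
  have part_map : ∀ (β : MulAut K), (∀ n ∈ N, β n ∈ N) → ∀ B : E →ₐ[ℂ] E, (∀ k, B (σ k) = σ (β k)) →
      ∀ u k, IsPart u k → IsPart (Units.map B.toMonoidHom u) (β k) := by
    rintro β hβ B hB u k ⟨hu, y, hy, y', hy', e1, e2⟩
    have hA : ∀ a ∈ algN σ N, B a ∈ algN σ N := fun a ha => by
      have h1 : Subalgebra.map B (algN σ N) ≤ algN σ N := by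
        rw [algN, AlgHom.map_adjoin]
        refine Algebra.adjoin_mono ?_
        rintro _ ⟨_, ⟨n, hn, rfl⟩, rfl⟩
        exact ⟨β n, hβ n hn, (hB n).symm⟩
      exact h1 ⟨a, ha, rfl⟩
    refine ⟨fun n hn => ?_, B y, hA y hy, B y', hA y' hy', by rw [← map_mul, e1, map_one], ?_⟩
    · let g : N → N := fun m => ⟨β m, hβ m m.2⟩
      have hg : Function.Injective g := fun a b h => Subtype.ext (β.injective (congrArg Subtype.val h))
      obtain ⟨m, hm⟩ := (Finite.injective_iff_surjective.mp hg) ⟨n, hn⟩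
      have h2 : σ n = B (σ m) := by rw [hB]; exact congrArg σ (congrArg Subtype.val hm).symm
      rw [h2]
      exact (hu m m.2).map B
    · rw [← hB, e2, map_mul]; rfl
  have part_hom : ∀ (β : MulAut K), (∀ n ∈ N, β n ∈ N) → ∀ B : E →ₐ[ℂ] E, (∀ k, B (σ k) = σ (β k)) →
      ∃ b : Pt →* Pt, (∀ u, (((b u : Pt) : Eˣ) : E) = B ((u : Eˣ) : E)) ∧ (∀ c, b (z c) = z c) ∧
        ∀ u k, IsPart (u : Pt) k → IsPart (b u : Pt) (β k) := by
    intro β hβ B hB
    refine ⟨((Units.map B.toMonoidHom).comp Pt.subtype).codRestrict Pt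
      (fun u => let ⟨k, hk⟩ := part_of u; ⟨β k, part_map β hβ B hB u k hk⟩), fun _ => rfl,
      fun c => Subtype.ext (Units.ext (B.commutes c)), fun u k hk => part_map β hβ B hB u k hk⟩
  have hBψ : ∀ s, ∃ B : E →ₐ[ℂ] E, ∀ k, B (σ k) = σ (ψ s k) := fun s => by
    obtain ⟨F⟩ := nonempty_equiv_of_character_eq σ (σ.comp (ψ s).toMonoidHom)
      (funext fun k => (hθ s k).symm)
    exact ⟨(F.toLinearEquiv.conjAlgEquiv ℂ).toAlgHom, fun k => F.conj_apply_self k⟩
  choose Bs hBs using hBψ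
  choose as has hasz hasp using fun s => part_hom (ψ s) (hstab s) (Bs s) (hBs s)
  have has_mul : ∀ s t u, as (s * t) u = as s (as t u) := fun s t u => by
    refine Subtype.ext (Units.ext ?_)
    rw [has, has, has]
    have h1 : (Bs (s * t)).toLinearMap = ((Bs s).comp (Bs t)).toLinearMap :=
      ext_of_irreducible hσ fun k => by
        show Bs (s * t) (σ k) = Bs s (Bs t (σ k))
        rw [hBs, hBs, hBs, map_mul, MulAut.mul_apply]
    exact LinearMap.congr_fun h1 _
  choose pt hpt using part_ex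
  -- a hom trivial on scalars and fixed by `S` is trivial
  have huniq : ∀ ν : Pt →* ℂˣ, (∀ c, ν (z c) = 1) → (∀ s u, ν (as s u) = ν u) → ν = 1 := by
    intro ν hνz hνs
    have hval : ∀ u k, IsPart (u : Pt) k → ν u = ν (pt k) := fun u k hu => by
      obtain ⟨c, hc⟩ := part_unique _ _ k hu (hpt k)
      rw [hc, map_mul, hνz, one_mul]
    let l : K →* ℂˣ :=
      { toFun := fun k => ν (pt k)
        map_one' := (hval 1 1 (part_one 1 N.one_mem)).symm.trans (map_one ν)
        map_mul' := fun a b => by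
          rw [← map_mul]
          exact (hval _ _ (part_mul _ _ a b (hpt a) (hpt b))).symm }
    have hl : l = 1 := hfix l (fun n hn => (hval 1 n (part_one n hn)).symm.trans (map_one ν))
      (fun s k => by
        show ν (pt (ψ s k)) = ν (pt k)
        rw [← hval _ _ (hasp s _ k (hpt k)), hνs])
    refine MonoidHom.ext fun u => ?_
    obtain ⟨k, hk⟩ := part_of u
    rw [hval u k hk]
    exact DFunLike.congr_fun hl k
  obtain ⟨f, hf, -, hfβ⟩ := exists_quad_fixed hz hzc hcomm as has_mul hasz hn hcop huniq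
  -- the operator
  let w : Pt → E := fun u => (f u : ℂ) • (((u : Eˣ)⁻¹ * (u : Eˣ)⁻¹ : Eˣ) : E)
  have wscal : ∀ c u, w (z c * u) = w u := fun c u => by
    have h1 : (((z c * u : Pt) : Eˣ)⁻¹ * ((z c * u : Pt) : Eˣ)⁻¹ : Eˣ) =
        ((z (c⁻¹ * c⁻¹) * (u⁻¹ * u⁻¹) : Pt) : Eˣ) := by
      have e : (z c * u)⁻¹ * (z c * u)⁻¹ = z (c⁻¹ * c⁻¹) * (u⁻¹ * u⁻¹) := by
        rw [mul_inv_rev, ← map_inv, ← hzc, map_mul, mul_assoc (z c⁻¹) u⁻¹, ← mul_assoc u⁻¹ (z c⁻¹),
          ← hzc]
        simp only [mul_assoc]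
      exact congrArg Subtype.val e
    simp only [w]
    rw [h1, hf.scal]
    simp only [Subgroup.coe_mul, Units.val_mul, hzval, Algebra.algebraMap_eq_smul_one,
      smul_one_mul, smul_smul]
    simp only [Subgroup.coe_inv]
    congr 1
    simp only [Units.val_mul, Units.val_pow_eq_pow_val, Units.val_inv_eq_inv_val]
    field_simp
  have wval : ∀ u k, IsPart (u : Pt) k → w (pt k) = w u := fun u k hu => by
    obtain ⟨c, hc⟩ := part_unique _ _ k hu (hpt k)
    rw [hc, wscal]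
  have wcomm : ∀ u : Pt, ∀ n ∈ N, Commute (w u) (σ n) := fun u n hn => by
    obtain ⟨k, hk⟩ := part_of u
    have h1 := (hk.1 n hn).units_inv_left
    show Commute ((f u : ℂ) • _) _
    rw [Units.val_mul]
    exact (h1.mul_left h1).smul_left _
  let J₀ : E := ∑ k, w (pt k)
  have hJN : ∀ n ∈ N, Commute J₀ (σ n) := fun n hn => Commute.sum_left _ _ _ fun k _ => wcomm _ n hn
  -- conjugation by a part
  have hJv : ∀ v : Pt, J₀ * ((v : Eˣ) : E) = (f v : ℂ) • (((v : Eˣ)⁻¹ : Eˣ) : E) * J₀ := by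
    intro v
    obtain ⟨a, hva⟩ := part_of v
    simp only [J₀]
    rw [Finset.sum_mul, Finset.mul_sum]
    refine Fintype.sum_equiv (Equiv.mulRight a⁻¹) _ _ fun k => ?_
    show w (pt k) * _ = _ * w (pt (k * a⁻¹))
    rw [wval (pt k * v⁻¹) (k * a⁻¹) (part_mul _ _ _ _ (hpt k) (part_inv _ _ hva))]
    set u := pt k
    set b := v⁻¹ with hb
    obtain ⟨c, hc⟩ := hcomm u b
    have e1 : (u * b)⁻¹ * (u * b)⁻¹ = z c * (b⁻¹ * b⁻¹ * (u⁻¹ * u⁻¹)) ∧
        u⁻¹ * u⁻¹ * v = z (c * c) * (b * (b⁻¹ * b⁻¹ * (u⁻¹ * u⁻¹))) := by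
      have h2 : u⁻¹ * b⁻¹ = z c * (b⁻¹ * u⁻¹) := by
        rw [← mul_inv_rev b u, ← mul_inv_rev u b, hc, mul_inv_rev (z c), hzc, inv_mul_cancel_right]
      constructor
      · calc (u * b)⁻¹ * (u * b)⁻¹ = b⁻¹ * (u⁻¹ * b⁻¹) * u⁻¹ := by rw [mul_inv_rev]; simp only [mul_assoc]
          _ = _ := by rw [h2, ← mul_assoc b⁻¹ (z c), ← hzc]; simp only [mul_assoc]
      · rw [show v = b⁻¹ by rw [hb, inv_inv]]
        calc u⁻¹ * u⁻¹ * b⁻¹ = u⁻¹ * (z c * (b⁻¹ * u⁻¹)) := by rw [mul_assoc, h2]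
          _ = z c * (u⁻¹ * b⁻¹) * u⁻¹ := by rw [← mul_assoc u⁻¹ (z c), ← hzc]; simp only [mul_assoc]
          _ = _ := by rw [h2, map_mul, ← mul_assoc b, ← mul_assoc b, mul_inv_cancel, one_mul]
                      simp only [mul_assoc]
    have hfv : (f v : ℂ) * (f b : ℂ) = 1 := by
      rw [← Units.val_mul, hf.mul_inv, Units.val_one]
    simp only [w]
    rw [smul_mul_assoc, smul_mul_smul_comm]
    rw [show ((((u : Pt) : Eˣ)⁻¹ * ((u : Pt) : Eˣ)⁻¹ : Eˣ) : E) * ((v : Eˣ) : E) =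
        (((u⁻¹ * u⁻¹ * v : Pt) : Eˣ) : E) from rfl,
      show (((v : Eˣ)⁻¹ : Eˣ) : E) * ((((u * b : Pt) : Eˣ)⁻¹ * ((u * b : Pt) : Eˣ)⁻¹ : Eˣ) : E) =
        (((b * ((u * b)⁻¹ * (u * b)⁻¹) : Pt) : Eˣ) : E) from rfl,
      e1.1, e1.2, ← mul_assoc b (z c), ← hzc, mul_assoc (z c) b]
    simp only [Subgroup.coe_mul, Units.val_mul, hzval, Algebra.algebraMap_eq_smul_one, smul_one_mul,
      smul_smul, hf.cocyc u b c hc]
    congr 1
    linear_combination (-(f u : ℂ) * (c : ℂ) * (c : ℂ)) * hfv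
  -- the trace
  have htr : LinearMap.trace ℂ V J₀ ≠ 0 := by
    have hd : 0 < Module.finrank ℂ V := finrank_pos_of_irreducible σ (G := K)
    have hzero : ∀ u : Pt, (∀ c, u ≠ z c) → LinearMap.trace ℂ V ((u : Eˣ) : E) = 0 := by
      intro u hu
      obtain ⟨k, hk⟩ : ∃ k, ((u : Eˣ) : E) * σ k ≠ σ k * ((u : Eˣ) : E) := by
        by_contra h
        push Not at h
        obtain ⟨c, hc⟩ := commute_scalar hσ _ h
        have hc0 : c ≠ 0 := by rintro rfl; rw [zero_smul] at hc; exact (u : Eˣ).ne_zero hc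
        exact hu (Units.mk0 c hc0) (Subtype.ext (Units.ext (by
          rw [hzval, Units.val_mk0, hc, Algebra.algebraMap_eq_smul_one])))
      obtain ⟨hv, y, hy, y', hy', e1, e2⟩ := hpt k
      obtain ⟨c, hc⟩ := hcomm (pt k) u
      obtain ⟨l, hl⟩ := part_of u
      have hc1 : (c : ℂ) ≠ 1 := by
        intro h1
        rw [Units.val_eq_one] at h1
        rw [h1, map_one, one_mul] at hc
        apply hk
        rw [e2, ← mul_assoc, mul_assoc ((pt k : Eˣ) : E) y, ← (commute_algN hl.1 hy).eq, ← mul_assoc,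
          ← Units.val_mul, ← Subgroup.coe_mul, ← hc]
        rfl
      have h2 : LinearMap.trace ℂ V ((u : Eˣ) : E) = (c : ℂ) * LinearMap.trace ℂ V ((u : Eˣ) : E) := by
        rw [← smul_eq_mul, ← map_smul]
        have h3 : (((pt k * u * (pt k)⁻¹ : Pt) : Eˣ) : E) = (c : ℂ) • ((u : Eˣ) : E) := by
          rw [hc, mul_assoc, mul_inv_cancel_right, Subgroup.coe_mul, Units.val_mul, hzval,
            Algebra.algebraMap_eq_smul_one, smul_one_mul]
        rw [← h3, Subgroup.coe_mul, Subgroup.coe_mul, Units.val_mul, Units.val_mul,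
          LinearMap.trace_mul_comm, ← mul_assoc, ← Units.val_mul, ← Subgroup.coe_mul, inv_mul_cancel]
        simp
      by_contra h0
      exact hc1 (mul_right_cancel₀ h0 ((one_mul _).trans h2).symm)
    have hterm : ∀ k, LinearMap.trace ℂ V (w (pt k)) =
        if ∃ c, pt k = z c then (Module.finrank ℂ V : ℂ) else 0 := by
      intro k
      split_ifs with h
      · obtain ⟨c, hc⟩ := h
        rw [hc, ← mul_one (z c), wscal]
        simp [w, hf.map_one]
      · push Not at h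
        have h1 : ∀ c, (pt k)⁻¹ * (pt k)⁻¹ ≠ z c := by
          intro c hc
          obtain ⟨j, hj⟩ := hodd
          obtain ⟨e, he⟩ := hn (pt k)
          rw [← mul_inv_rev, inv_eq_iff_eq_inv, ← map_inv] at hc
          rw [hj, pow_succ, pow_mul, pow_two, hc, ← map_pow] at he
          refine h ((c⁻¹ ^ j)⁻¹ * e) ?_
          rw [map_mul, map_inv, ← he, inv_mul_cancel_left]
        show LinearMap.trace ℂ V ((f (pt k) : ℂ) • _) = 0
        rw [map_smul, show ((((pt k : Pt) : Eˣ)⁻¹ * ((pt k : Pt) : Eˣ)⁻¹ : Eˣ) : E) =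
          ((((pt k)⁻¹ * (pt k)⁻¹ : Pt) : Eˣ) : E) from rfl, hzero _ h1, smul_zero]
    show LinearMap.trace ℂ V (∑ k, w (pt k)) ≠ 0
    rw [map_sum, Finset.sum_congr rfl fun k _ => hterm k, ← Finset.sum_filter, Finset.sum_const,
      nsmul_eq_mul]
    refine mul_ne_zero (Nat.cast_ne_zero.mpr (Finset.card_ne_zero.mpr ⟨1, ?_⟩)) (Nat.cast_ne_zero.mpr hd.ne')
    rw [Finset.mem_filter]
    obtain ⟨c, hc⟩ := part_unique _ 1 1 (hpt 1) (part_one 1 N.one_mem)
    exact ⟨Finset.mem_univ _, c, by rw [hc, mul_one]⟩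
  -- passing `σ k`
  have hJσ : ∀ k, J₀ * σ k = (f (pt k) : ℂ) • ((((pt k : Pt) : Eˣ)⁻¹ : Eˣ) : E) *
      ((((pt k : Pt) : Eˣ)⁻¹ : Eˣ) : E) * σ k * J₀ := fun k => by
    obtain ⟨hv, y, hy, y', hy', e1, e2⟩ := hpt k
    rw [e2, ← mul_assoc, hJv, smul_mul_assoc, smul_mul_assoc, smul_mul_assoc, smul_mul_assoc,
      mul_assoc _ J₀ y, (commute_algN hJN hy).eq]
    simp only [mul_assoc, smul_mul_assoc, Units.inv_mul_cancel_left]
  have hinj : Function.Injective J₀ := by
    let W : Subrepresentation σ := ⟨LinearMap.ker J₀, fun k v hv => by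
      rw [LinearMap.mem_ker] at hv ⊢
      have h1 := LinearMap.congr_fun (hJσ k) v
      rw [Module.End.mul_apply, Module.End.mul_apply, hv, map_zero] at h1
      exact h1⟩
    rcases IsSimpleOrder.eq_bot_or_eq_top W with h | h
    · exact LinearMap.ker_eq_bot.mp (congrArg Subrepresentation.toSubmodule h)
    · refine absurd ?_ htr
      rw [show J₀ = 0 from LinearMap.ker_eq_top.mp (congrArg Subrepresentation.toSubmodule h), map_zero]
  have hJJv : ∀ v : Pt, Commute (J₀ * J₀) ((v : Eˣ) : E) := fun v => by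
    show J₀ * J₀ * _ = _ * (J₀ * J₀)
    rw [mul_assoc, hJv, smul_mul_assoc, mul_smul_comm, ← mul_assoc,
      show (((v : Eˣ)⁻¹ : Eˣ) : E) = (((v⁻¹ : Pt) : Eˣ) : E) from rfl, hJv v⁻¹, Subgroup.coe_inv,
      inv_inv,
      smul_mul_assoc, smul_mul_assoc, smul_smul, ← Units.val_mul, hf.mul_inv, Units.val_one, one_smul,
      mul_assoc]
  obtain ⟨r, hr⟩ := commute_scalar hσ (J₀ * J₀) fun k => by
    obtain ⟨hv, y, hy, y', hy', e1, e2⟩ := hpt k
    have h1 : Commute J₀ y := commute_algN hJN hy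
    rw [e2]
    exact ((hJJv (pt k)).mul_right (h1.mul_left h1)).eq
  have hr0 : r ≠ 0 := by
    rintro rfl
    rw [zero_smul] at hr
    obtain ⟨v, hv⟩ := exists_ne (0 : V)
    refine hv (hinj (hinj ?_))
    rw [map_zero, map_zero]
    exact (Module.End.mul_apply J₀ J₀ v).symm.trans ((LinearMap.congr_fun hr v).trans rfl)
  obtain ⟨q, hq⟩ := IsAlgClosed.exists_pow_nat_eq r⁻¹ (n := 2) two_pos
  refine ⟨q • J₀, ?_, fun n hn => (hJN n hn).smul_left q, fun k => ?_, fun β hβψ hβN B hB => ?_⟩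
  · rw [smul_mul_smul_comm, hr, smul_smul, ← pow_two, hq, inv_mul_cancel₀ hr0, one_smul]
  · obtain ⟨hv, y, hy, y', hy', e1, e2⟩ := hpt k
    refine ⟨(f (pt k) : ℂ) • (y * y), Subalgebra.smul_mem _ (mul_mem hy hy) _,
      ((f (pt k))⁻¹ : ℂˣ).val • (y' * y'), Subalgebra.smul_mem _ (mul_mem hy' hy') _, ?_, ?_⟩
    · rw [smul_mul_smul_comm, ← Units.val_mul, mul_inv_cancel, Units.val_one, one_smul, mul_assoc,
        ← mul_assoc y y' y', e1, one_mul, e1]
    · set v := ((pt k : Eˣ) : E) with hvdef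
      set v' := ((((pt k : Pt) : Eˣ)⁻¹ : Eˣ) : E) with hv'def
      have h1 : Commute J₀ y := commute_algN hJN hy
      have h2 : v * y = y * v := (commute_algN hv hy).eq
      rw [e2]
      simp only [smul_mul_assoc, mul_smul_comm, smul_smul]
      have h3 : J₀ * (v * y) = (f (pt k) : ℂ) • (v' * y * J₀) := by
        rw [← mul_assoc, hJv, smul_mul_assoc, smul_mul_assoc, mul_assoc _ J₀ y, h1.eq, ← mul_assoc]
      rw [h3, smul_mul_assoc, smul_mul_assoc, mul_assoc (v' * y) J₀ J₀, hr]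
      simp only [mul_smul_comm, smul_mul_assoc, smul_smul, mul_one]
      rw [mul_assoc v' y, ← mul_assoc y v y, ← h2, mul_assoc v y y, ← mul_assoc v' v, hvdef, hv'def,
        Units.inv_mul, one_mul]
      congr 1
      linear_combination (f (pt k) : ℂ) * r * hq + (f (pt k) : ℂ) * inv_mul_cancel₀ hr0
  · obtain ⟨b, hb, hbz, hbp⟩ := part_hom β hβN B hB
    rw [map_smul]
    congr 1
    show B (∑ k, w (pt k)) = ∑ k, w (pt k)
    rw [map_sum]
    refine Fintype.sum_equiv β.toEquiv _ _ fun k => ?_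
    show B (w (pt k)) = w (pt (β k))
    rw [wval _ _ (hbp _ _ (hpt k))]
    have hbf : f (b (pt k)) = f (pt k) := hfβ b hbz (fun s u => Subtype.ext (Units.ext (by
      rw [hb, has, has, hb]
      have h1 : (B.comp (Bs s)).toLinearMap = ((Bs s).comp B).toLinearMap :=
        ext_of_irreducible hσ fun k => by
          show B (Bs s (σ k)) = Bs s (B (σ k))
          rw [hBs, hB, hB, hBs, hβψ]
      exact LinearMap.congr_fun h1 _))) _
    show B ((f (pt k) : ℂ) • _) = (f (b (pt k)) : ℂ) • _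
    rw [hbf, map_smul]
    congr 1
    rw [Units.val_mul, map_mul, show (((pt k : Pt) : Eˣ)⁻¹ : Eˣ) = (((pt k)⁻¹ : Pt) : Eˣ) from rfl,
      ← hb, map_inv]
    rfl

end CfsgLib.CharBlocks.OddStep
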