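import Cfsg.Agent.Lib.CharBlocks.OddStep.Setup
import Cfsg.Agent.Lib.CharBlocks.OddStep.Inverter

/-!
# The odd abelian step over an invariant character of `L` stable in the whole group

* `exists_theta`: the unique invariant character of `K` over it;
* `exists_twist`: the twisted restriction `δ` with its parity, norm and degree;
* `core_correspondence`: the correspondence by odd multiplicity.
-/

set_option autoImplicit false

noncomputable section

namespace CfsgLib.CharBlocks.OddStep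

open Cfsg CfsgLib.Char CfsgLib.CharNormal
open CfsgLib.CharBlocks.RelGlauberman (InvOn classInner_ne_zero_trans)
open scoped ComplexConjugate

universe u v

variable {G : Type u} {S : Type v} [Group G] [Group S] {φ : S →* MulAut G} {K L H : Subgroup G}
  [K.Normal] [L.Normal]

/-- The unique invariant character of `K` over a stable invariant character of `L`. -/
theorem exists_theta [Fintype G] [Finite S] [Fintype K] [Fintype L] (h : OddSetup φ K L H) (ϕ : Cfsg.IrrCharacter L)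
    (hϕT : ∀ g, conjFun L g (ϕ : L → ℂ) = ϕ) (hϕS : InvOn φ L (ϕ : L → ℂ)) :
    ∃ θ : Cfsg.IrrCharacter K, InvOn φ K (θ : K → ℂ) ∧
      classInner (fun l : L => (θ : K → ℂ) ⟨l, h.le l.2⟩) (ϕ : L → ℂ) ≠ 0 ∧
      (∀ g, conjFun K g (θ : K → ℂ) = θ) ∧
      ∀ θ' : Cfsg.IrrCharacter K, InvOn φ K (θ' : K → ℂ) →
        classInner (fun l : L => (θ' : K → ℂ) ⟨l, h.le l.2⟩) (ϕ : L → ℂ) ≠ 0 → θ' = θ := by
  classical
  have := Fintype.ofFinite S
  let N := L.subgroupOf K
  have := Fintype.ofFinite N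
  let eN : N ≃* L := Subgroup.subgroupOfEquivOfLe h.le
  let ψ := restrAut φ K h.stK
  have hab : ∀ a b : K ⧸ N, a * b = b * a := by
    intro p q
    obtain ⟨a, rfl⟩ := QuotientGroup.mk_surjective p
    obtain ⟨b, rfl⟩ := QuotientGroup.mk_surjective q
    rw [← QuotientGroup.mk_mul, ← QuotientGroup.mk_mul, QuotientGroup.eq, Subgroup.mem_subgroupOf]
    have h1 := h.ab _ (K.inv_mem b.2) _ (K.inv_mem a.2)
    push_cast
    rw [mul_inv_rev]
    simpa [mul_assoc] using h1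
  have hcopN : N.index.Coprime (⊥ : Subgroup S).index := by
    rw [Subgroup.index_bot]
    exact ((h.cop.coprime_dvd_right ((Subgroup.index_dvd_card N).trans K.card_subgroup_dvd_card))).symm
  have hover : ∀ f : K → ℂ, classInner (fun n : N => f n) ((ϕ : L → ℂ) ∘ eN) =
      classInner (fun l : L => f ⟨l, h.le l.2⟩) (ϕ : L → ℂ) := fun f => by
    rw [← classInner_comp_mulEquiv eN]
    rfl
  obtain ⟨θ, hθS, hθ⟩ := exists_invariant_over_abelian ψ N hab (fun s n hn => h.stL s _ hn) ⊥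
    (fun s hs => by
      rw [Subgroup.mem_bot] at hs
      exact ⟨1, N.one_mem, fun g => by rw [hs, map_one]; simp⟩)
    hcopN ⟨(ϕ : L → ℂ) ∘ eN, isIrr_comp_mulEquiv ϕ.2 eN⟩
    (fun s n => hϕS s (eN n) (eN (restrAut ψ N (fun s n hn => h.stL s _ hn) s n)) rfl)
  replace hθ : classInner (fun l : L => (θ : K → ℂ) ⟨l, h.le l.2⟩) (ϕ : L → ℂ) ≠ 0 := hover _ ▸ hθ
  have huniq : ∀ θ' : Cfsg.IrrCharacter K, InvOn φ K (θ' : K → ℂ) →
      classInner (fun l : L => (θ' : K → ℂ) ⟨l, h.le l.2⟩) (ϕ : L → ℂ) ≠ 0 → θ' = θ := by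
    intro θ' hθ'S hθ'
    obtain ⟨l, hl⟩ := exists_eq_linear_mul_of_over N hab θ.2 θ'.2
      (isIrr_comp_mulEquiv ϕ.2 eN) (hover _ ▸ hθ) (hover _ ▸ hθ')
    refine Subtype.ext (funext fun k => ?_)
    rw [hl]
    show (l (k : K ⧸ N) : ℂ) * (θ : K → ℂ) k = (θ : K → ℂ) k
    by_cases h0 : (θ : K → ℂ) k = 0
    · rw [h0, mul_zero]
    · have h1 : l (k : K ⧸ N) = 1 := by
        refine h.eq_one_of_fixed (l.comp (QuotientGroup.mk' N)) (fun x hx => ?_) k fun s => ?_
        · show l (x : K ⧸ N) = 1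
          rw [(QuotientGroup.eq_one_iff x).mpr hx, map_one]
        · show l ((ψ s k : K) : K ⧸ N) = l (k : K ⧸ N)
          have e1 : (θ' : K → ℂ) (ψ s k) = (θ' : K → ℂ) k := hθ'S s k _ rfl
          rw [hl] at e1
          simp only [hθS s k] at e1
          exact Units.ext (mul_right_cancel₀ h0 e1)
      rw [h1, Units.val_one, one_mul]
  refine ⟨θ, fun s c c' hc => ?_, hθ, fun g => ?_, huniq⟩
  · rw [show c' = ψ s c from Subtype.ext hc]
    exact hθS s c
  · obtain ⟨k, hk, c, hc, rfl⟩ := h.decomp g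
    rw [← conjFun_conjFun, conjFun_of_mem K (isClassFunction_of_isIrr θ.2) hk]
    refine congrArg Subtype.val (huniq ⟨_, isIrr_conjFun K θ.2 c⟩ (fun s x x' hx => ?_) ?_)
    · show (θ : K → ℂ) _ = (θ : K → ℂ) _
      rw [show (⟨c * x' * c⁻¹, Subgroup.Normal.conj_mem ‹_› _ x'.2 c⟩ : K) =
        ψ s ⟨c * x * c⁻¹, Subgroup.Normal.conj_mem ‹_› _ x.2 c⟩ from Subtype.ext (by
          show c * (x' : G) * c⁻¹ = φ s (c * (x : G) * c⁻¹)
          rw [map_mul, map_mul, map_inv, hc, hx])]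
      exact hθS s _
    · show classInner (fun l : L => conjFun K c (θ : K → ℂ) ⟨l, h.le l.2⟩) (ϕ : L → ℂ) ≠ 0
      rw [show (fun l : L => conjFun K c (θ : K → ℂ) ⟨l, h.le l.2⟩) =
        conjFun L c (fun l : L => (θ : K → ℂ) ⟨l, h.le l.2⟩) from rfl]
      conv_lhs => arg 2; rw [← hϕT c]
      rw [classInner_conjFun]
      exact hθ

/-- The twisted restrictions. -/
theorem exists_twist [Fintype G] [Finite S] [Fintype K] [Fintype L] [Fintype H] (h : OddSetup φ K L H)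
    (ϕ : Cfsg.IrrCharacter L) (hϕT : ∀ g, conjFun L g (ϕ : L → ℂ) = ϕ)
    (θ : Cfsg.IrrCharacter K) (hθS : InvOn φ K (θ : K → ℂ))
    (hθL : classInner (fun l : L => (θ : K → ℂ) ⟨l, h.le l.2⟩) (ϕ : L → ℂ) ≠ 0)
    (hθG : ∀ g, conjFun K g (θ : K → ℂ) = θ) :
    ∃ δ : {χ : Cfsg.IrrCharacter G // classInner (fun k : K => (χ : G → ℂ) k) (θ : K → ℂ) ≠ 0} → H → ℂ,
      (∀ χ χ', classInner (δ χ) (δ χ') = if χ = χ' then 1 else 0) ∧
      ∀ χ, ∃ ν : H → ℂ, Cfsg.IsCharacter H ν ∧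
        (∀ x : H, δ χ x = (χ.1 : G → ℂ) x - 2 * ν x) ∧
        ∃ f : ℕ, (∀ k : K, (χ.1 : G → ℂ) k = (f : ℂ) * (θ : K → ℂ) k) ∧
          (δ χ 1 = (f : ℂ) * (ϕ : L → ℂ) 1 ∨ δ χ 1 = -((f : ℂ) * (ϕ : L → ℂ) 1)) := by
  classical
  have := Fintype.ofFinite S
  obtain ⟨d, σ, hσ, hσθ⟩ := id θ.2
  let N := L.subgroupOf K
  have := Fintype.ofFinite N
  let eN : N ≃* L := Subgroup.subgroupOfEquivOfLe h.le
  let ϕN : N → ℂ := (ϕ : L → ℂ) ∘ eN
  have hϕN : Cfsg.IsIrrCharacter N ϕN := isIrr_comp_mulEquiv ϕ.2 eN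
  have hϕNinv : ∀ k : K, conjFun N k ϕN = ϕN := fun k => funext fun n =>
    congrFun (hϕT k) (eN n)
  have hθN : classInner (fun n : N => (θ : K → ℂ) n) ϕN ≠ 0 := by
    rw [show (fun n : N => (θ : K → ℂ) n) = (fun l : L => (θ : K → ℂ) ⟨l, h.le l.2⟩) ∘ eN from rfl,
      classInner_comp_mulEquiv]
    exact hθL
  obtain ⟨e, he⟩ := classInner_char_nat (isCharacter_res N (isCharacter_of_isIrr θ.2))
    (isCharacter_of_isIrr hϕN)
  have hres : (fun n : N => (θ : K → ℂ) n) = (e : ℂ) • ϕN :=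
    he ▸ res_eq_smul_of_invariant N θ.2 hϕN hϕNinv hθN
  have hsplit : Split σ N := exists_split σ N (e := e)
    (Nat.pos_of_ne_zero fun h0 => hθN (by rw [he, h0, Nat.cast_zero])) hϕN
    (fun n => by rw [hσθ]; exact congrFun hres n)
    (fun k n n' hn => by
      rw [show n' = (⟨k * n * k⁻¹, Subgroup.Normal.conj_mem inferInstance _ n.2 k⟩ : N) from
        Subtype.ext hn]
      exact congrFun (hϕNinv k) n)
  let ψ := restrAut φ K h.stK
  obtain ⟨J, hJJ, hJN, hJinv, hJfix⟩ := exists_inverter hσ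
    (fun a b => h.ab _ a.2 _ b.2)
    (h.odd.of_dvd_nat ((Subgroup.index_dvd_card N).trans K.card_subgroup_dvd_card))
    hsplit ψ (fun s n hn => h.stL s _ hn)
    (fun s k => by rw [hσθ]; exact hθS s k _ rfl)
    (h.cop.coprime_dvd_right ((Subgroup.index_dvd_card N).trans K.card_subgroup_dvd_card))
    (fun l hl hs => MonoidHom.ext fun k => h.eq_one_of_fixed l (fun x hx => hl x hx) k fun s => hs s k)
  have hJinv' : ∀ k : K, ∃ a ∈ Algebra.adjoin ℂ (σ '' {k : K | (k : G) ∈ L}),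
      ∃ a' ∈ Algebra.adjoin ℂ (σ '' {k : K | (k : G) ∈ L}), a * a' = 1 ∧ J * σ k * J * σ k = a := hJinv
  -- the trace of `J`
  have htrJ : LinearMap.trace ℂ _ J = (ϕ : L → ℂ) 1 ∨ LinearMap.trace ℂ _ J = -(ϕ : L → ℂ) 1 := by
    let σ' : Representation ℂ (⊤ : Subgroup K) (Fin d → ℂ) := σ.comp (⊤ : Subgroup K).subtype
    have hσ' : σ'.IsIrreducible := by
      refine isIrreducible_of_isIrrCharacter (G := (⊤ : Subgroup K)) σ' ?_
      rw [show σ'.character = (θ : K → ℂ) ∘ (Subgroup.topEquiv : (⊤ : Subgroup K) ≃* K) from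
        funext fun x => congrFun hσθ (x : K)]
      exact isIrr_comp_mulEquiv θ.2 _
    have hset : (σ '' {k : K | (k : G) ∈ L}) = σ' '' {k : (⊤ : Subgroup K) | (k : K) ∈ N} := by
      ext x
      exact ⟨fun ⟨k, hk, hx⟩ => ⟨⟨k, trivial⟩, hk, hx⟩, fun ⟨k, hk, hx⟩ => ⟨k, hk, hx⟩⟩
    have := Fintype.ofFinite (⊤ : Subgroup K)
    have key := sum_trace_pair (⊤ : Subgroup K) N N (fun a _ b _ => h.ab _ a.2 _ b.2)
      (h.odd.of_dvd_nat K.card_subgroup_dvd_card)
      (fun g => ⟨1, N.one_mem, g, trivial, (one_mul g).symm⟩) le_top le_rfl (fun x _ hx => hx)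
      hσ' J hJJ (fun k => hset ▸ hJinv' (k : K)) σ σ (AlgHom.id ℂ _) (AlgHom.id ℂ _)
      (fun k => rfl) (fun k => rfl) (fun n hn => (hJN n hn).eq) (fun n hn => (hJN n hn).eq)
    simp only [AlgHom.id_apply] at key
    obtain ⟨ν, hν, hδ⟩ := exists_neg_part (σ.comp N.subtype) J hJJ (fun n => (hJN n n.2).eq)
    have hf : Cfsg.IsCharacter N fun n : N => (θ : K → ℂ) n :=
      isCharacter_res N (isCharacter_of_isIrr θ.2)
    have hval : ∀ n : N, LinearMap.trace ℂ _ (J * σ n) = (θ : K → ℂ) n - 2 * ν n := fun n => by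
      rw [← congrFun hσθ n]; exact hδ n
    have hn1 : classInner (fun n : N => (θ : K → ℂ) n - 2 * ν n)
        (fun n : N => (θ : K → ℂ) n - 2 * ν n) = 1 := by
      rw [classInner_def]
      have e1 : ∀ n : N, conj ((θ : K → ℂ) n - 2 * ν n) = LinearMap.trace ℂ _ (J * σ (n : K)⁻¹) := by
        intro n
        rw [← Subgroup.coe_inv, hval, map_sub, map_mul, map_ofNat, ← char_inv hν, ← char_inv hf]
      rw [Finset.sum_congr rfl fun n _ => by rw [e1 n, ← hval n]]
      have h2 : ∑ g : K, σ.character g * σ.character g⁻¹ = (Nat.card K : ℂ) := by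
        rw [hσθ, ← mul_one (Nat.card K : ℂ), ← classInner_irr_self θ.2, card_mul_classInner]
        exact Finset.sum_congr rfl fun g _ => by rw [char_inv (isCharacter_of_isIrr θ.2)]
      rw [h2, Nat.card_congr (Subgroup.topEquiv (G := K)).toEquiv, mul_comm (Nat.card N : ℂ)] at key
      rw [mul_left_cancel₀ card_ne_zero' key, inv_mul_cancel₀ card_ne_zero']
    obtain ⟨ε, ψ₀, hε, hψ₀, hpar⟩ := signed_irr hf hν hn1
    have hψϕ : (ψ₀ : N → ℂ) = ϕN := by
      obtain ⟨m, hm⟩ := classInner_char_nat hf (isCharacter_of_isIrr ψ₀.2)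
      have hodd : Odd m := (hpar ψ₀ m hm).mpr rfl
      by_contra hne
      rw [hres, classInner_smul_left, classInner_irr_ne hϕN ψ₀.2 (Ne.symm hne), mul_zero] at hm
      rw [show m = 0 by exact_mod_cast hm.symm] at hodd
      exact Nat.not_odd_zero hodd
    have h1 : LinearMap.trace ℂ _ J = ε * (ϕ : L → ℂ) 1 := by
      have h2 := (hval 1).trans (hψ₀ 1)
      rw [hψϕ, OneMemClass.coe_one, map_one, mul_one] at h2
      rw [h2]
      show ε * (ϕ : L → ℂ) (eN 1) = _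
      rw [map_one]
    rcases hε with rfl | rfl <;> [left; right] <;> simp [h1]
  -- transport to each character over `θ`
  have hdata : ∀ χ : {χ : Cfsg.IrrCharacter G //
      classInner (fun k : K => (χ : G → ℂ) k) (θ : K → ℂ) ≠ 0},
      ∃ (n : ℕ) (ρ : Representation ℂ G (Fin n → ℂ))
        (π : Module.End ℂ (Fin d → ℂ) →ₐ[ℂ] Module.End ℂ (Fin n → ℂ)) (f : ℕ),
        ρ.character = (χ.1 : G → ℂ) ∧ (∀ k, π (σ k) = ρ (k : G)) ∧
        (∀ x ∈ H, π J * ρ x = ρ x * π J) ∧ (∀ k : K, (χ.1 : G → ℂ) k = (f : ℂ) * (θ : K → ℂ) k) ∧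
        LinearMap.trace ℂ _ (π J) = (f : ℂ) * LinearMap.trace ℂ _ J := by
    rintro ⟨χ, hχ⟩
    obtain ⟨n, ρ, -, hρ⟩ := id χ.2
    obtain ⟨f, hf⟩ := classInner_char_nat (isCharacter_res K (isCharacter_of_isIrr χ.2))
      (isCharacter_of_isIrr θ.2)
    have hr : (fun k : K => (χ : G → ℂ) k) = (f : ℂ) • (θ : K → ℂ) :=
      hf ▸ res_eq_smul_of_invariant K χ.2 θ.2 hθG hχ
    obtain ⟨E⟩ := nonempty_equiv_of_character_eq (σ.tprod (1 : Representation ℂ K (Fin f → ℂ)))
      (ρ.comp K.subtype) (funext fun k => by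
        rw [Representation.char_tensor, Pi.mul_apply]
        show σ.character k * LinearMap.trace ℂ _ (1 : Module.End ℂ (Fin f → ℂ)) = ρ.character (k : G)
        rw [LinearMap.trace_one, Module.finrank_pi, Fintype.card_fin, hρ, hσθ]
        exact (mul_comm _ _).trans (congrFun hr k).symm)
    let π : Module.End ℂ (Fin d → ℂ) →ₐ[ℂ] Module.End ℂ (Fin n → ℂ) :=
      ((E.toLinearEquiv.conjAlgEquiv ℂ).toAlgHom).comp
        (Module.End.rTensorAlgHom ℂ (Fin d → ℂ) (Fin f → ℂ))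
    have hπ : ∀ k, π (σ k) = ρ (k : G) := fun k => E.conj_apply_self k
    have htr : ∀ X, LinearMap.trace ℂ _ (π X) = (f : ℂ) * LinearMap.trace ℂ _ X := fun X => by
      show LinearMap.trace ℂ _ (E.toLinearEquiv.conj (TensorProduct.map X (1 : Module.End ℂ (Fin f → ℂ)))) = _
      rw [LinearMap.trace_conj', LinearMap.trace_tensorProduct', LinearMap.trace_one, Module.finrank_pi,
        Fintype.card_fin, mul_comm]
    refine ⟨n, ρ, π, f, hρ, hπ, fun x hx => ?_, fun k => congrFun hr k, htr J⟩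
    obtain ⟨l, hl, c, hc, rfl⟩ := (h.mem_H x).mp hx
    have hl' : Commute (π J) (ρ l) := by
      have := (hJN ⟨l, h.le hl⟩ hl).map π
      rwa [hπ] at this
    have hc' : Commute (π J) (ρ c) := by
      let β : MulAut K := MulAut.conjNormal c
      let σc : Representation ℂ K (Fin d → ℂ) := σ.comp β.toMonoidHom
      obtain ⟨F⟩ := nonempty_equiv_of_character_eq σ σc (funext fun k => by
        show σ.character k = σ.character (β k)
        rw [hσθ]
        exact (congrFun (hθG c) k).symm)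
      let B := (F.toLinearEquiv.conjAlgEquiv ℂ).toAlgHom
      have hB : ∀ k, B (σ k) = σ (β k) := fun k => F.conj_apply_self k
      have hBJ : B J = J := hJfix β (fun s k => Subtype.ext (by
          show c * φ s (k : G) * c⁻¹ = φ s ((β k : K) : G)
          rw [MulAut.conjNormal_apply, map_mul, map_mul, map_inv, hc]))
        (fun m hm => by
          show ((β m : K) : G) ∈ L
          rw [MulAut.conjNormal_apply]
          exact Subgroup.Normal.conj_mem ‹L.Normal› _ hm c) B hB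
      have h1 : π.toLinearMap ∘ₗ B.toLinearMap =
          (LinearMap.mulRight ℂ (ρ c⁻¹) ∘ₗ LinearMap.mulLeft ℂ (ρ c)) ∘ₗ π.toLinearMap :=
        ext_of_irreducible hσ fun k => by
          show π (B (σ k)) = ρ c * π (σ k) * ρ c⁻¹
          rw [hB, hπ, hπ, ← map_mul, ← map_mul, MulAut.conjNormal_apply]
      have h2 : π (B J) = ρ c * π J * ρ c⁻¹ := LinearMap.congr_fun h1 J
      rw [hBJ] at h2
      show π J * ρ c = ρ c * π J
      conv_lhs => rw [h2, mul_assoc, ← map_mul, inv_mul_cancel, map_one, mul_one]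
    rw [map_mul]
    exact hl'.mul_right hc'
  choose n ρ π f hρ hπ hJH hf htr using hdata
  have hν : ∀ χ, ∃ ν : H → ℂ, Cfsg.IsCharacter H ν ∧
      ∀ x : H, LinearMap.trace ℂ _ (π χ J * ρ χ (x : G)) = (χ.1 : G → ℂ) x - 2 * ν x := fun χ => by
    obtain ⟨ν, hν, hνx⟩ := exists_neg_part ((ρ χ).comp H.subtype) (π χ J)
      (by rw [← map_mul, hJJ, map_one]) (fun x => hJH χ x x.2)
    exact ⟨ν, hν, fun x => by rw [← congrFun (hρ χ) x]; exact hνx x⟩
  choose ν hνc hνx using hν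
  refine ⟨fun χ x => LinearMap.trace ℂ _ (π χ J * ρ χ (x : G)), fun χ χ' => ?_,
    fun χ => ⟨ν χ, hνc χ, hνx χ, f χ, hf χ, ?_⟩⟩
  · have key := sum_trace_pair K L H h.ab h.odd h.cover h.le h.le_H (fun x hx hx' => h.inter hx hx')
      hσ J hJJ hJinv' (ρ χ) (ρ χ') (π χ) (π χ') (hπ χ) (hπ χ') (hJH χ) (hJH χ')
    rw [classInner_def, Finset.sum_congr rfl fun (x : H) _ => show
      LinearMap.trace ℂ _ (π χ J * ρ χ (x : G)) * conj (LinearMap.trace ℂ _ (π χ' J * ρ χ' (x : G))) =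
      LinearMap.trace ℂ _ (π χ J * ρ χ (x : G)) * LinearMap.trace ℂ _ (π χ' J * ρ χ' (x : G)⁻¹) by
        rw [← Subgroup.coe_inv H x, hνx χ' x⁻¹, hνx χ' x, map_sub, map_mul (starRingEnd ℂ), map_ofNat,
          ← char_inv (hνc χ'), ← char_inv (isCharacter_of_isIrr χ'.1.2), Subgroup.coe_inv]]
    have hG : ∑ g, (ρ χ).character g * (ρ χ').character g⁻¹ =
        (Nat.card G : ℂ) * (if χ = χ' then 1 else 0) := by
      have hi : classInner (χ.1 : G → ℂ) (χ'.1 : G → ℂ) = if χ = χ' then 1 else 0 := by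
        split_ifs with he
        · rw [he]; exact classInner_irr_self χ'.1.2
        · exact classInner_irr_ne χ.1.2 χ'.1.2 fun e => he (Subtype.ext (Subtype.ext e))
      rw [hρ, hρ, ← hi, card_mul_classInner]
      exact Finset.sum_congr rfl fun g _ => by rw [char_inv (isCharacter_of_isIrr χ'.1.2)]
    rw [hG, ← mul_assoc, show (Nat.card L : ℂ) * (Nat.card G : ℂ) = (Nat.card K : ℂ) * (Nat.card H : ℂ) by
      exact_mod_cast h.card_mul.symm, mul_assoc] at key
    rw [mul_left_cancel₀ card_ne_zero' key, inv_mul_cancel_left₀ card_ne_zero']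
  · show LinearMap.trace ℂ _ (π χ J * ρ χ ((1 : H) : G)) = _ ∨
      LinearMap.trace ℂ _ (π χ J * ρ χ ((1 : H) : G)) = _
    rw [OneMemClass.coe_one, map_one, mul_one, htr]
    rcases htrJ with e | e <;> [left; right] <;> simp [e]

/-- The correspondence over a stable invariant character of `L`. -/
theorem core_correspondence [Fintype G] [Finite S] [Fintype L] [Fintype H] (h : OddSetup φ K L H)
    (ϕ : Cfsg.IrrCharacter L) (hϕT : ∀ g, conjFun L g (ϕ : L → ℂ) = ϕ)
    (hϕS : InvOn φ L (ϕ : L → ℂ)) :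
    (∀ χ : Cfsg.IrrCharacter G, IsInvariant φ χ →
      classInner (fun l : L => (χ : G → ℂ) l) (ϕ : L → ℂ) ≠ 0 →
      ∃ ψ : Cfsg.IrrCharacter H, InvOn φ H (ψ : H → ℂ) ∧
        classInner (fun l : L => (ψ : H → ℂ) ⟨l, h.le_H l.2⟩) (ϕ : L → ℂ) ≠ 0 ∧
        Odd (mult H.subtype χ ψ) ∧
        ∀ ψ' : Cfsg.IrrCharacter H, Odd (mult H.subtype χ ψ') → ψ' = ψ) ∧
    ∀ ψ : Cfsg.IrrCharacter H, InvOn φ H (ψ : H → ℂ) →
      classInner (fun l : L => (ψ : H → ℂ) ⟨l, h.le_H l.2⟩) (ϕ : L → ℂ) ≠ 0 →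
      ∃ χ : Cfsg.IrrCharacter G, IsInvariant φ χ ∧
        classInner (fun l : L => (χ : G → ℂ) l) (ϕ : L → ℂ) ≠ 0 ∧ Odd (mult H.subtype χ ψ) ∧
        ∀ χ' : Cfsg.IrrCharacter G, IsInvariant φ χ' →
          classInner (fun l : L => (χ' : G → ℂ) l) (ϕ : L → ℂ) ≠ 0 →
          Odd (mult H.subtype χ' ψ) → χ' = χ := by
  classical
  have := Fintype.ofFinite K
  obtain ⟨θ, hθS, hθL, hθG, hθu⟩ := exists_theta h ϕ hϕT hϕS
  obtain ⟨δ, hδ, hδν⟩ := exists_twist h ϕ hϕT θ hθS hθL hθG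
  choose ν hν hδx f hf hf1 using hδν
  have hrc : ∀ χ : Cfsg.IrrCharacter G, Cfsg.IsCharacter H fun x : H => (χ : G → ℂ) x := fun χ =>
    isCharacter_res H (isCharacter_of_isIrr χ.2)
  have hsigned : ∀ χ, ∃ (ε : ℂ) (ψ : Cfsg.IrrCharacter H), (ε = 1 ∨ ε = -1) ∧
      (∀ x, δ χ x = ε * (ψ : H → ℂ) x) ∧
      ∀ ψ' : Cfsg.IrrCharacter H, (Odd (mult H.subtype χ.1 ψ') ↔ ψ' = ψ) := by
    intro χ
    have h1 := hδ χ χ
    rw [if_pos rfl, show δ χ = fun x : H => (χ.1 : G → ℂ) x - 2 * ν χ x from funext (hδx χ)] at h1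
    obtain ⟨ε, ψ, hε, hψ, hpar⟩ := signed_irr (hrc χ.1) (hν χ) h1
    exact ⟨ε, ψ, hε, fun x => (hδx χ x).trans (hψ x),
      fun ψ' => hpar ψ' _ (classInner_eq_mult H.subtype χ.1 ψ')⟩
  choose ε F hε hFx hFodd using hsigned
  have hFinj : Function.Injective F := by
    intro χ χ' he
    by_contra hne
    have h1 := hδ χ χ'
    rw [if_neg hne, show δ χ = ε χ • (F χ : H → ℂ) from funext (hFx χ),
      show δ χ' = ε χ' • (F χ' : H → ℂ) from funext (hFx χ'), classInner_smul_left,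
      classInner_smul_right, he, classInner_irr_self (F χ').2, mul_one] at h1
    rcases hε χ with e | e <;> rcases hε χ' with e' | e' <;> simp [e, e'] at h1
  -- the restriction of a character over `θ` to `L`
  have hoverL : ∀ χ : {χ : Cfsg.IrrCharacter G //
      classInner (fun k : K => (χ : G → ℂ) k) (θ : K → ℂ) ≠ 0},
      classInner (fun l : L => (χ.1 : G → ℂ) l) (ϕ : L → ℂ) ≠ 0 := fun χ =>
    classInner_ne_zero_trans (isCharacter_res K (isCharacter_of_isIrr χ.1.2)) θ.2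
      (Subgroup.inclusion h.le) ϕ.2 χ.2 hθL
  -- a constituent on `H` lies over `ϕ`
  have hFover : ∀ χ, classInner (fun l : L => (F χ : H → ℂ) ⟨l, h.le_H l.2⟩) (ϕ : L → ℂ) ≠ 0 := by
    intro χ
    obtain ⟨μ, hμ, hμ0⟩ := exists_constituent
      (isCharacter_comp (isCharacter_of_isIrr (F χ).2) (Subgroup.inclusion h.le_H))
      (fun e => irr_one_ne_zero (F χ).2 (by simpa using congrFun e 1))
    have hne : classInner (fun x : H => (χ.1 : G → ℂ) x) (F χ : H → ℂ) ≠ 0 := by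
      rw [show (fun x : H => (χ.1 : G → ℂ) x) = (χ.1 : G → ℂ) ∘ H.subtype from rfl, classInner_eq_mult]
      exact Nat.cast_ne_zero.mpr ((hFodd χ (F χ)).mpr rfl).pos.ne'
    have h1 : classInner (fun l : L => (χ.1 : G → ℂ) l) μ ≠ 0 :=
      classInner_ne_zero_trans (hrc χ.1) (F χ).2 (Subgroup.inclusion h.le_H) hμ hne hμ0
    have h2 : μ = (ϕ : L → ℂ) := by
      obtain ⟨g, hg⟩ := exists_conj_of_constituents L χ.1.2 ϕ.2 hμ (hoverL χ) h1
      rw [← hg, hϕT]
    exact h2 ▸ hμ0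
  let N := L.subgroupOf H
  have := Fintype.ofFinite N
  let eN : N ≃* L := Subgroup.subgroupOfEquivOfLe h.le_H
  let ϕN : N → ℂ := (ϕ : L → ℂ) ∘ eN
  have hϕN : Cfsg.IsIrrCharacter N ϕN := isIrr_comp_mulEquiv ϕ.2 eN
  have hϕNinv : ∀ x : H, conjFun N x ϕN = ϕN := fun x => funext fun n => congrFun (hϕT (x : G)) (eN n)
  have hoverN : ∀ ψ : Cfsg.IrrCharacter H, classInner (fun n : N => (ψ : H → ℂ) n) ϕN =
      classInner (fun l : L => (ψ : H → ℂ) ⟨l, h.le_H l.2⟩) (ϕ : L → ℂ) := fun ψ => by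
    rw [← classInner_comp_mulEquiv eN]
    rfl
  choose g hg using fun ψ : Cfsg.IrrCharacter H => classInner_char_nat
    (isCharacter_res N (isCharacter_of_isIrr ψ.2)) (isCharacter_of_isIrr hϕN)
  obtain ⟨a, ha0, ha⟩ := exists_degree_pos ϕ.2
  have hgdeg : ∀ ψ : Cfsg.IrrCharacter H, g ψ ≠ 0 → (ψ : H → ℂ) 1 = (g ψ : ℂ) * (a : ℂ) := by
    intro ψ h0
    have h1 : classInner (fun n : N => (ψ : H → ℂ) n) ϕN ≠ 0 := by
      rw [hg]; exact Nat.cast_ne_zero.mpr h0
    have h2 := congrFun (res_eq_smul_of_invariant N ψ.2 hϕN hϕNinv h1) 1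
    rw [hg ψ, Pi.smul_apply, smul_eq_mul, OneMemClass.coe_one] at h2
    rw [h2]
    show (g ψ : ℂ) * (ϕ : L → ℂ) (eN 1) = _
    rw [map_one, ha]
  have hgF : ∀ χ, g (F χ) = f χ := by
    intro χ
    have h0 : g (F χ) ≠ 0 := fun h0 => hFover χ (by rw [← hoverN, hg, h0, Nat.cast_zero])
    have h1 := hFx χ 1
    rw [hgdeg _ h0] at h1
    have h2 : (δ χ 1) ^ 2 = ((f χ : ℂ) * (a : ℂ)) ^ 2 := by
      rcases hf1 χ with e | e <;> rw [e, ha] <;> ring
    rw [h1, mul_pow] at h2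
    rcases hε χ with e | e <;> rw [e] at h2 <;>
    · have h3 : ((g (F χ) * a) ^ 2 : ℕ) = (f χ * a) ^ 2 := by
        have h4 : ((g (F χ) : ℂ) * (a : ℂ)) ^ 2 = ((f χ : ℂ) * (a : ℂ)) ^ 2 := by linear_combination h2
        exact_mod_cast h4
      exact Nat.eq_of_mul_eq_mul_right ha0 (Nat.pow_left_injective two_ne_zero h3)
  -- counting
  have hsurj : ∀ ψ : Cfsg.IrrCharacter H, g ψ ≠ 0 → ∃ χ, F χ = ψ := by
    have hK := sum_degree_mul_classInner_res K θ.2
    have hH := sum_degree_mul_classInner_res N hϕN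
    have eK : (∑ χ, f χ ^ 2 : ℕ) = K.index := by
      have h1 : ∑ χ : {χ : Cfsg.IrrCharacter G //
          classInner (fun k : K => (χ : G → ℂ) k) (θ : K → ℂ) ≠ 0},
          (χ.1 : G → ℂ) 1 * classInner (fun k : K => (χ.1 : G → ℂ) k) (θ : K → ℂ) =
          (K.index : ℂ) * (θ : K → ℂ) 1 := by
        rw [← hK, ← Finset.sum_subtype (Finset.univ.filter fun χ : Cfsg.IrrCharacter G =>
          classInner (fun k : K => (χ : G → ℂ) k) (θ : K → ℂ) ≠ 0) (fun x => by simp)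
          (fun χ : Cfsg.IrrCharacter G =>
            (χ : G → ℂ) 1 * classInner (fun k : K => (χ : G → ℂ) k) (θ : K → ℂ))]
        refine Finset.sum_subset (Finset.subset_univ _) fun x _ hx => ?_
        have : classInner (fun k : K => (x : G → ℂ) k) (θ : K → ℂ) = 0 := by simpa using hx
        rw [this, mul_zero]
      rw [Finset.sum_congr rfl fun χ _ => show (χ.1 : G → ℂ) 1 *
          classInner (fun k : K => (χ.1 : G → ℂ) k) (θ : K → ℂ) = ((f χ : ℂ) ^ 2) * (θ : K → ℂ) 1 by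
        have h2 := hf χ 1
        rw [OneMemClass.coe_one] at h2
        rw [h2, show (fun k : K => (χ.1 : G → ℂ) k) = (f χ : ℂ) • (θ : K → ℂ) from funext (hf χ),
          classInner_smul_left, classInner_irr_self θ.2]
        ring, ← Finset.sum_mul] at h1
      exact_mod_cast mul_right_cancel₀ (irr_one_ne_zero θ.2) h1
    have eH : (∑ ψ, g ψ ^ 2 : ℕ) = N.index := by
      have h1 : (∑ ψ, ((g ψ : ℂ) ^ 2)) * (a : ℂ) = (N.index : ℂ) * (a : ℂ) := by
        rw [Finset.sum_mul]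
        refine Eq.trans (Finset.sum_congr rfl fun ψ _ => ?_) (hH.trans ?_)
        · rw [hg]
          rcases eq_or_ne (g ψ) 0 with h0 | h0
          · simp [h0]
          · rw [hgdeg ψ h0]; ring
        · show _ * (ϕ : L → ℂ) (eN 1) = _
          rw [map_one, ha]
      exact_mod_cast mul_right_cancel₀ (Nat.cast_ne_zero.mpr ha0.ne') h1
    have eidx : K.index = N.index := by
      have h1 := h.card_mul
      have h2 := K.index_mul_card
      have h3 := N.index_mul_card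
      rw [Nat.card_congr eN.toEquiv] at h3
      have h4 : 0 < Nat.card K * Nat.card L := Nat.mul_pos Nat.card_pos Nat.card_pos
      refine Nat.eq_of_mul_eq_mul_right h4 ?_
      calc K.index * (Nat.card K * Nat.card L) = Nat.card G * Nat.card L := by rw [← mul_assoc, h2]
        _ = Nat.card K * Nat.card H := by rw [h1, mul_comm]
        _ = N.index * (Nat.card K * Nat.card L) := by rw [← h3]; ring
    intro ψ h0
    by_contra hψ
    push Not at hψ
    have h1 : ∑ χ, g (F χ) ^ 2 = ∑ x ∈ Finset.univ.image F, g x ^ 2 :=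
      (Finset.sum_image (f := fun x => g x ^ 2) (g := F) fun _ _ _ _ e => hFinj e).symm
    have h2 : ∑ x ∈ Finset.univ.image F, g x ^ 2 + g ψ ^ 2 ≤ ∑ x, g x ^ 2 := by
      rw [← Finset.sum_erase_add _ _ (Finset.mem_univ ψ)]
      exact Nat.add_le_add_right (Finset.sum_le_sum_of_subset fun x hx => by
        obtain ⟨χ, -, rfl⟩ := Finset.mem_image.mp hx
        exact Finset.mem_erase.mpr ⟨hψ χ, Finset.mem_univ _⟩) _
    rw [← h1, Finset.sum_congr rfl fun χ _ => by rw [hgF χ], eK, eH, eidx] at h2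
    have : 0 < g ψ ^ 2 := pow_pos (Nat.pos_of_ne_zero h0) 2
    omega
  -- invariant characters over `ϕ` lie over `θ`
  have hoverθ : ∀ χ : Cfsg.IrrCharacter G, IsInvariant φ χ →
      classInner (fun l : L => (χ : G → ℂ) l) (ϕ : L → ℂ) ≠ 0 →
      classInner (fun k : K => (χ : G → ℂ) k) (θ : K → ℂ) ≠ 0 := by
    intro χ hχ hχL
    obtain ⟨μ, hμ, hμ0⟩ := exists_constituent (isCharacter_res K (isCharacter_of_isIrr χ.2))
      (fun e => irr_one_ne_zero χ.2 (congrFun e 1))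
    have hμS := constituent_invariant φ K h.stK h.cop h.decomp hχ (θ := ⟨μ, hμ⟩) hμ0
    obtain ⟨ν', hν', hν0⟩ := exists_constituent
      (isCharacter_comp (isCharacter_of_isIrr hμ) (Subgroup.inclusion h.le))
      (fun e => irr_one_ne_zero hμ (by simpa using congrFun e 1))
    obtain ⟨x, hx⟩ := exists_conj_of_constituents L χ.2 ϕ.2 hν' hχL
      (classInner_ne_zero_trans (isCharacter_res K (isCharacter_of_isIrr χ.2)) hμ
        (Subgroup.inclusion h.le) hν' hμ0 hν0)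
    rw [hϕT] at hx
    have h1 := hθu ⟨μ, hμ⟩ hμS (by rw [hx]; exact hν0)
    rw [← h1]
    exact hμ0
  refine ⟨fun χ hχ hχL => ?_, fun ψ hψS hψL => ?_⟩
  · let χ' : {χ : Cfsg.IrrCharacter G //
        classInner (fun k : K => (χ : G → ℂ) k) (θ : K → ℂ) ≠ 0} := ⟨χ, hoverθ χ hχ hχL⟩
    refine ⟨F χ', fun s x x' hx => ?_, hFover χ', (hFodd χ' _).mpr rfl, fun ψ' => (hFodd χ' ψ').mp⟩
    let r := restrAut φ H h.stH s
    let ψ₁ : Cfsg.IrrCharacter H := ⟨(F χ' : H → ℂ) ∘ (r : H ≃* H), isIrr_comp_mulEquiv (F χ').2 _⟩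
    have h1 : mult H.subtype χ ψ₁ = mult H.subtype χ (F χ') := by
      have e : classInner ((χ : G → ℂ) ∘ H.subtype) (ψ₁ : H → ℂ) =
          classInner ((χ : G → ℂ) ∘ H.subtype) (F χ' : H → ℂ) := by
        conv_lhs => rw [show (χ : G → ℂ) ∘ H.subtype = ((χ : G → ℂ) ∘ H.subtype) ∘ (r : H ≃* H) from
          funext fun y => (hχ s y).symm]
        exact classInner_comp_mulEquiv (r : H ≃* H) _ _
      rw [classInner_eq_mult, classInner_eq_mult] at e
      exact_mod_cast e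
    have h2 : ψ₁ = F χ' := (hFodd χ' ψ₁).mp (by rw [h1]; exact (hFodd χ' _).mpr rfl)
    rw [show x' = r x from Subtype.ext hx]
    exact congrFun (congrArg Subtype.val h2) x
  · obtain ⟨χ, hχ⟩ := hsurj ψ (fun h0 => hψL (by rw [← hoverN, hg, h0, Nat.cast_zero]))
    have hinv : IsInvariant φ χ.1 := by
      intro s x
      let r := restrAut φ H h.stH s
      let χ₁ : Cfsg.IrrCharacter G := ⟨(χ.1 : G → ℂ) ∘ (φ s : G ≃* G), isIrr_comp_mulEquiv χ.1.2 _⟩
      have h0 : classInner (fun k : K => (χ₁ : G → ℂ) k) (θ : K → ℂ) ≠ 0 := by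
        let rK := restrAut φ K h.stK s
        intro h1
        refine χ.2 ?_
        rw [← classInner_comp_mulEquiv (rK : K ≃* K)]
        refine Eq.trans ?_ h1
        congr 1
        exact funext fun k => hθS s k _ rfl
      have e : classInner ((χ₁ : G → ℂ) ∘ H.subtype) (ψ : H → ℂ) =
          classInner ((χ.1 : G → ℂ) ∘ H.subtype) (ψ : H → ℂ) := by
        rw [show (χ₁ : G → ℂ) ∘ H.subtype = ((χ.1 : G → ℂ) ∘ H.subtype) ∘ (r : H ≃* H) from rfl]
        conv_lhs => arg 2; rw [show (ψ : H → ℂ) = (ψ : H → ℂ) ∘ (r : H ≃* H) from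
          funext fun y => (hψS s y _ rfl).symm]
        exact classInner_comp_mulEquiv (r : H ≃* H) _ _
      rw [classInner_eq_mult, classInner_eq_mult, Nat.cast_inj] at e
      have h1 : F ⟨χ₁, h0⟩ = ψ := ((hFodd ⟨χ₁, h0⟩ ψ).mp (by
        rw [e]; exact (hFodd χ ψ).mpr hχ.symm)).symm
      have h2 : χ₁ = χ.1 := congrArg Subtype.val (hFinj (h1.trans hχ.symm))
      exact congrFun (congrArg Subtype.val h2) x
    refine ⟨χ.1, hinv, hoverL χ, (hFodd χ ψ).mpr hχ.symm, fun χ' hχ' hχ'L hodd => ?_⟩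
    have h1 := (hFodd ⟨χ', hoverθ χ' hχ' hχ'L⟩ ψ).mp hodd
    exact congrArg Subtype.val (hFinj (h1.symm.trans hχ.symm))

end CfsgLib.CharBlocks.OddStep
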