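import Cfsg.Agent.Lib.Schur.Trivial
import Mathlib.GroupTheory.QuotientGroup.Basic

/-!
# Quadratic normalisations on a group which is commutative modulo a central copy of `ℂˣ`

* `IsQuad`: `f (z c * u) = c ^ 2 * f u` and `f (u * v) = f u * f v * c` for `u * v = z c * (v * u)`;
  then `u ↦ z (f u) * u⁻¹` is multiplicative;
* `exists_quad`: existence;
* `exists_quad_fixed`: existence of one fixed by coprime operators.
-/

set_option autoImplicit false

noncomputable section

namespace CfsgLib.CharBlocks.OddStep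

variable {U : Type*} [Group U]

/-- A quadratic normalisation. -/
structure IsQuad (z : ℂˣ →* U) (f : U → ℂˣ) : Prop where
  scal : ∀ c u, f (z c * u) = c ^ 2 * f u
  cocyc : ∀ u v c, u * v = z c * (v * u) → f (u * v) = f u * f v * c

variable {z : ℂˣ →* U} {f : U → ℂˣ}

theorem IsQuad.map_one (h : IsQuad z f) : f 1 = 1 := by
  have h1 := h.cocyc 1 1 1 (by simp)
  simpa using h1

theorem IsQuad.map_scal (h : IsQuad z f) (c : ℂˣ) : f (z c) = c ^ 2 := by
  have h1 := h.scal c 1
  simpa [h.map_one] using h1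

theorem IsQuad.mul_inv (h : IsQuad z f) (u : U) : f u * f u⁻¹ = 1 := by
  have h1 := h.cocyc u u⁻¹ 1 (by simp)
  simpa [h.map_one] using h1.symm

/-- Existence of a quadratic normalisation. -/
theorem exists_quad (hz : Function.Injective z) (hc : ∀ c u, z c * u = u * z c)
    (hcomm : ∀ u v, ∃ c, u * v = z c * (v * u)) : ∃ f, IsQuad z f := by
  classical
  let Pairs : Subgroup (U × U) :=
    { carrier := {p | ∃ c, p.1 * p.2 = z c}
      one_mem' := ⟨1, by simp⟩
      mul_mem' := by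
        rintro ⟨u, v⟩ ⟨u', v'⟩ ⟨a, ha⟩ ⟨b, hb⟩
        obtain ⟨d, hd⟩ := hcomm u' v
        refine ⟨d * (a * b), ?_⟩
        show u * u' * (v * v') = _
        calc u * u' * (v * v') = u * (u' * v) * v' := by simp only [mul_assoc]
          _ = u * (z d * (v * u')) * v' := by rw [hd]
          _ = z d * ((u * v) * (u' * v')) := by
              rw [← mul_assoc u (z d), ← hc d u]; simp only [mul_assoc]
          _ = _ := by rw [map_mul, map_mul, ← ha, ← hb]
      inv_mem' := by
        rintro ⟨u, v⟩ ⟨a, ha⟩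
        obtain ⟨d, hd⟩ := hcomm u⁻¹ v⁻¹
        refine ⟨d * a⁻¹, ?_⟩
        show u⁻¹ * v⁻¹ = _
        rw [hd, map_mul, map_inv, show z a = u * v from ha.symm, mul_inv_rev] }
  let diag : ℂˣ →* Pairs := (z.prod z).codRestrict Pairs fun c => ⟨c * c, by simp⟩
  have hcen : ∀ (c : ℂˣ) (p : Pairs), diag c * p = p * diag c := fun c p =>
    Subtype.ext (Prod.ext (hc c _) (hc c _))
  let D : Subgroup Pairs := diag.range
  have hD : D.Normal := ⟨by
    rintro x ⟨c, rfl⟩ p
    exact ⟨c, by rw [← hcen, mul_inv_cancel_right]⟩⟩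
  have hab : ∀ p q : Pairs ⧸ D, p * q = q * p := by
    intro p q
    obtain ⟨⟨⟨u, v⟩, a, ha⟩, rfl⟩ := QuotientGroup.mk_surjective p
    obtain ⟨⟨⟨u', v'⟩, b, hb⟩, rfl⟩ := QuotientGroup.mk_surjective q
    obtain ⟨c, hu⟩ := hcomm u' u
    have hv1 : v = u⁻¹ * z a := by rw [← show u * v = z a from ha, inv_mul_cancel_left]
    have hv2 : v' = u'⁻¹ * z b := by rw [← show u' * v' = z b from hb, inv_mul_cancel_left]
    rw [← QuotientGroup.mk_mul, ← QuotientGroup.mk_mul, QuotientGroup.eq]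
    refine ⟨c, ?_⟩
    rw [eq_comm, inv_mul_eq_iff_eq_mul, ← hcen]
    refine Subtype.ext (Prod.ext hu ?_)
    show v' * v = z c * (v * v')
    have h4 : u'⁻¹ * u⁻¹ = z c * (u⁻¹ * u'⁻¹) := by
      have h5 := congrArg (·⁻¹) hu
      simp only [mul_inv_rev] at h5
      rw [h5, ← mul_assoc, hc, mul_inv_cancel_right]
    rw [hv1, hv2]
    calc u'⁻¹ * z b * (u⁻¹ * z a) = (u'⁻¹ * u⁻¹) * (z b * z a) := by
          rw [mul_assoc u'⁻¹, ← mul_assoc (z b), hc b]; simp only [mul_assoc]
      _ = z c * (u⁻¹ * u'⁻¹) * (z a * z b) := by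
          rw [h4, ← map_mul, ← map_mul, mul_comm b a]
      _ = _ := by
          rw [← hc a u⁻¹, hc a u⁻¹, mul_assoc u⁻¹ (z a), ← mul_assoc (z a) u'⁻¹, hc a u'⁻¹]
          simp only [mul_assoc]
  let _ : CommGroup (Pairs ⧸ D) :=
    { (inferInstance : Group (Pairs ⧸ D)) with mul_comm := hab }
  let first : ℂˣ →* Pairs := (z.prod 1).codRestrict Pairs fun c => ⟨c, by simp⟩
  have hi : Function.Injective ((QuotientGroup.mk' D).comp first) := by
    refine (injective_iff_map_eq_one _).mpr fun c h => ?_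
    obtain ⟨d, hd⟩ := (QuotientGroup.eq_one_iff _).mp h
    have h1 : z d = z c := congrArg (fun p : Pairs => p.1.1) hd
    have h2 : z d = 1 := congrArg (fun p : Pairs => p.1.2) hd
    exact hz (by rw [← h1, h2, map_one])
  obtain ⟨r, hr⟩ := CfsgLib.Schur.exists_hom_extend _ hi (MonoidHom.id ℂˣ)
  let pr : U → Pairs := fun u => ⟨(u, u⁻¹), 1, by simp⟩
  refine ⟨fun u => r (pr u : Pairs ⧸ D), fun c u => ?_, fun u v c h => ?_⟩
  · have he : pr (z c * u) = diag c⁻¹ * (first (c ^ 2) * pr u) := by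
      refine Subtype.ext (Prod.ext ?_ ?_)
      · show z c * u = z c⁻¹ * (z (c ^ 2) * u)
        rw [← mul_assoc, ← map_mul]; congr 2; rw [pow_two, inv_mul_cancel_left]
      · show (z c * u)⁻¹ = z c⁻¹ * (1 * u⁻¹)
        rw [mul_inv_rev, map_inv, one_mul, ← map_inv, hc]
    show r _ = _ * r _
    rw [he, QuotientGroup.mk_mul, (QuotientGroup.eq_one_iff _).mpr (show diag c⁻¹ ∈ D from ⟨_, rfl⟩),
      one_mul, QuotientGroup.mk_mul, map_mul]
    exact congrArg (· * _) (DFunLike.congr_fun hr (c ^ 2))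
  · have h4 : v⁻¹ * u⁻¹ = z c⁻¹ * (u⁻¹ * v⁻¹) := by
      rw [← mul_inv_rev, h, mul_inv_rev, map_inv, mul_inv_rev, ← map_inv, hc]
    have he : pr (u * v) = diag c⁻¹ * first c * (pr u * pr v) := by
      refine Subtype.ext (Prod.ext ?_ ?_)
      · show u * v = z c⁻¹ * z c * (u * v)
        rw [← map_mul, inv_mul_cancel, map_one, one_mul]
      · show (u * v)⁻¹ = z c⁻¹ * 1 * (u⁻¹ * v⁻¹)
        rw [mul_inv_rev, mul_one, h4]
    show r _ = r _ * r _ * c
    rw [he, QuotientGroup.mk_mul, QuotientGroup.mk_mul, QuotientGroup.mk_mul,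
      (QuotientGroup.eq_one_iff _).mpr (show diag c⁻¹ ∈ D from ⟨_, rfl⟩), one_mul, map_mul, map_mul,
      mul_comm]
    exact congrArg (_ * ·) (DFunLike.congr_fun hr c)

/-- Two quadratic normalisations differ by a homomorphism. -/
theorem IsQuad.exists_div {g : U → ℂˣ} (hf : IsQuad z f) (hg : IsQuad z g)
    (hcomm : ∀ u v, ∃ c, u * v = z c * (v * u)) :
    ∃ ν : U →* ℂˣ, (∀ c, ν (z c) = 1) ∧ ∀ u, g u = f u * ν u := by
  refine ⟨{ toFun := fun u => g u / f u, map_one' := by rw [hf.map_one, hg.map_one, div_one],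
            map_mul' := fun u v => ?_ }, fun c => ?_, fun u => ?_⟩
  · obtain ⟨c, hc⟩ := hcomm u v
    rw [hf.cocyc u v c hc, hg.cocyc u v c hc, mul_div_mul_comm, mul_div_mul_comm, div_self', mul_one]
  · show g (z c) / f (z c) = 1
    rw [hf.map_scal, hg.map_scal, div_self']
  · show g u = f u * (g u / f u)
    rw [mul_div_cancel]

theorem IsQuad.comp (hf : IsQuad z f) (β : U →* U) (hβ : ∀ c, β (z c) = z c) : IsQuad z (f ∘ β) :=
  ⟨fun c u => by simp only [Function.comp_apply, map_mul, hβ, hf.scal],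
    fun u v c h => by
      have h1 := congrArg β h
      simp only [map_mul, hβ] at h1
      simp only [Function.comp_apply, map_mul, hf.cocyc _ _ _ h1]⟩

/-- A quadratic normalisation fixed by coprime operators, and by whatever commutes with them. -/
theorem exists_quad_fixed {S : Type*} [Group S] [Finite S] (hz : Function.Injective z)
    (hc : ∀ c u, z c * u = u * z c) (hcomm : ∀ u v, ∃ c, u * v = z c * (v * u))
    (a : S → (U →* U)) (ha : ∀ s t u, a (s * t) u = a s (a t u)) (haz : ∀ s c, a s (z c) = z c)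
    {n : ℕ} (hn : ∀ u, ∃ c, u ^ n = z c) (hcop : (Nat.card S).Coprime n)
    (huniq : ∀ ν : U →* ℂˣ, (∀ c, ν (z c) = 1) → (∀ s u, ν (a s u) = ν u) → ν = 1) :
    ∃ f, IsQuad z f ∧ (∀ s u, f (a s u) = f u) ∧
      ∀ β : U →* U, (∀ c, β (z c) = z c) → (∀ s u, β (a s u) = a s (β u)) → ∀ u, f (β u) = f u := by
  classical
  have := Fintype.ofFinite S
  obtain ⟨f₀, hf₀⟩ := exists_quad hz hc hcomm
  have htor : ∀ (ν : U →* ℂˣ), (∀ c, ν (z c) = 1) → ∀ u, ν u ^ n = 1 := fun ν hν u => by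
    obtain ⟨c, hc⟩ := hn u
    rw [← map_pow, hc, hν]
  choose ν hνz hν using fun s => (hf₀.comp (a s) (haz s)).exists_div hf₀ hcomm
  -- `ν s` measures the failure of invariance: `f₀ u = f₀ (a s u) * ν s u`
  simp only [Function.comp_apply] at hν
  obtain ⟨m, hm⟩ : ∃ m : ℕ, ∀ x : ℂˣ, x ^ n = 1 → x ^ (Fintype.card S * m) = x := by
    rw [← Nat.card_eq_fintype_card]
    rcases Nat.lt_trichotomy n 1 with h1 | h1 | h1
    · obtain rfl : n = 0 := by omega
      rw [Nat.coprime_zero_right] at hcop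
      exact ⟨1, fun x _ => by rw [hcop, one_mul, pow_one]⟩
    · subst h1
      exact ⟨0, fun x hx => by rw [pow_one] at hx; simp [hx]⟩
    · obtain ⟨m, -, hm⟩ := Nat.exists_mul_mod_eq_one_of_coprime hcop h1
      refine ⟨m, fun x hx => ?_⟩
      rw [← Nat.mod_add_div (Nat.card S * m) n, hm, pow_add, pow_mul, hx, one_pow, mul_one, pow_one]
  -- the average of `ν s`
  let μ : U →* ℂˣ := ∏ s, (ν s)⁻¹
  have hμz : ∀ c, μ (z c) = 1 := fun c => by
    simp [μ, hνz]
  have hμ : ∀ t u, μ (a t u) = μ u * (ν t u) ^ Fintype.card S := by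
    intro t u
    have e : ∀ s, (ν s (a t u))⁻¹ = (ν (s * t) u)⁻¹ * ν t u := fun s => by
      have h1 := hν (s * t) u
      rw [ha, hν t u, hν s (a t u), mul_assoc, mul_right_inj] at h1
      rw [← h1, mul_inv, inv_mul_cancel_right]
    show (∏ s, (ν s)⁻¹ : U →* ℂˣ) (a t u) = (∏ s, (ν s)⁻¹ : U →* ℂˣ) u * _
    simp only [MonoidHom.finsetProd_apply, MonoidHom.inv_apply, e, Finset.prod_mul_distrib,
      Finset.prod_const, Finset.card_univ]
    congr 1
    exact Fintype.prod_equiv (Equiv.mulRight t) _ _ fun _ => rfl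
  have hf : IsQuad z fun u => f₀ u * μ u ^ m :=
    ⟨fun c u => by simp only [hf₀.scal, map_mul, hμz, one_mul, mul_assoc],
      fun u v c h => by simp only [hf₀.cocyc u v c h, map_mul, mul_pow]; ac_rfl⟩
  refine ⟨_, hf, fun t u => ?_, fun β hβ hcβ u => ?_⟩
  · simp only [hμ, mul_pow, ← pow_mul, hm _ (htor _ (hνz t) u), hν t u]
    ac_rfl
  · obtain ⟨δ, hδz, hδ⟩ := hf.exists_div (hf.comp β hβ) hcomm
    have h1 : δ = 1 := huniq δ hδz fun s u => by
      have e := hδ (a s u)
      have e' := hδ u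
      simp only [Function.comp_apply, hcβ] at e e'
      have hinv : ∀ t w, f₀ (a t w) * μ (a t w) ^ m = f₀ w * μ w ^ m := fun t w => by
        simp only [hμ, mul_pow, ← pow_mul, hm _ (htor _ (hνz t) w), hν t w]
        ac_rfl
      rw [hinv, hinv, e', mul_right_inj] at e
      exact e.symm
    have h2 := hδ u
    rw [h1, MonoidHom.one_apply, mul_one] at h2
    exact h2

end CfsgLib.CharBlocks.OddStep
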