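import Cfsg.Agent.Lib.CharBlocks.RelGlauberman
import Cfsg.Agent.Lib.CharBlocks.OddStep.Identity
import Cfsg.Agent.Lib.CharNormal.AbelianQuotient
import Mathlib.Data.Nat.ChineseRemainder
import Mathlib.LinearAlgebra.PID

/-!
# The odd abelian step: elementary consequences of the configuration

* `OddSetup`: operators without fixed points on the abelian odd section `K / L`, `G = K C`, `H = L C`;
* `constituent_invariant`: constituents of an invariant character are invariant;
* `signed_irr`: a difference `f - 2 ν` of norm one is a signed irreducible character;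
* `exists_neg_part`: the twisted trace of an involution.
-/

set_option autoImplicit false

noncomputable section

namespace CfsgLib.CharBlocks.OddStep

open Cfsg CfsgLib.Char CfsgLib.CharNormal
open CfsgLib.CharBlocks.RelGlauberman (InvOn classInner_ne_zero_trans)

/-- The configuration. -/
structure OddSetup {G S : Type*} [Group G] [Group S] (φ : S →* MulAut G) (K L H : Subgroup G) : Prop where
  odd : Odd (Nat.card G)
  cop : (Nat.card S).Coprime (Nat.card G)
  le : L ≤ K
  ab : ∀ a ∈ K, ∀ b ∈ K, a * b * a⁻¹ * b⁻¹ ∈ L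
  stK : ∀ s, ∀ k ∈ K, φ s k ∈ K
  stL : ∀ s, ∀ l ∈ L, φ s l ∈ L
  decomp : ∀ g : G, ∃ k ∈ K, ∃ c, (∀ s, φ s c = c) ∧ g = k * c
  mem_H : ∀ h, h ∈ H ↔ ∃ l ∈ L, ∃ c, (∀ s, φ s c = c) ∧ h = l * c
  fixed : ∀ k ∈ K, (∀ s, φ s k * k⁻¹ ∈ L) → k ∈ L

namespace OddSetup

variable {G S : Type*} [Group G] [Group S] {φ : S →* MulAut G} {K L H : Subgroup G}
  (h : OddSetup φ K L H)

include h

theorem le_H : L ≤ H := fun l hl => (h.mem_H l).mpr ⟨l, hl, 1, fun s => map_one _, (mul_one l).symm⟩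

theorem fix_mem_H {c : G} (hc : ∀ s, φ s c = c) : c ∈ H :=
  (h.mem_H c).mpr ⟨1, L.one_mem, c, hc, (one_mul c).symm⟩

theorem stH (s : S) (x : G) (hx : x ∈ H) : φ s x ∈ H := by
  obtain ⟨l, hl, c, hc, rfl⟩ := (h.mem_H x).mp hx
  exact (h.mem_H _).mpr ⟨φ s l, h.stL s l hl, c, hc, by rw [map_mul, hc]⟩

theorem inter {x : G} (hxK : x ∈ K) (hxH : x ∈ H) : x ∈ L := by
  obtain ⟨l, hl, c, hc, rfl⟩ := (h.mem_H x).mp hxH
  refine L.mul_mem hl (h.fixed c ?_ fun s => ?_)
  · simpa using K.mul_mem (K.inv_mem (h.le hl)) hxK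
  · rw [hc, mul_inv_cancel]; exact L.one_mem

theorem cover (g : G) : ∃ x ∈ H, ∃ k ∈ K, g = x * k := by
  obtain ⟨k, hk, c, hc, hg⟩ := h.decomp g⁻¹
  exact ⟨c⁻¹, H.inv_mem (h.fix_mem_H hc), k⁻¹, K.inv_mem hk, by rw [← mul_inv_rev, ← hg, inv_inv]⟩

theorem card_mul [Fintype G] : Nat.card K * Nat.card H = Nat.card L * Nat.card G := by
  classical
  have := Fintype.ofFinite K
  have := Fintype.ofFinite L
  have := Fintype.ofFinite H
  have h1 := sum_mul_fibres K L H h.cover h.le h.le_H (fun x hx hx' => h.inter hx hx')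
    (fun _ => (1 : ℂ))
  simp only [Finset.sum_const, Finset.card_univ, nsmul_eq_mul, mul_one, smul_eq_mul,
    ← Nat.card_eq_fintype_card] at h1
  rw [mul_comm]
  exact_mod_cast h1

/-- The product over the operators dies in every abelian image of `K / L`. -/
theorem prod_hom_eq_one [L.Normal] [Fintype S] {A : Type*} [CommGroup A] (l : K →* A)
    (hl : ∀ k : K, (k : G) ∈ L → l k = 1) (k : K) :
    ∏ s, l (restrAut φ K h.stK s k) = 1 := by
  classical
  let N := L.subgroupOf K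
  let _ : CommGroup (K ⧸ N) :=
    { (inferInstance : Group (K ⧸ N)) with
      mul_comm := by
        intro p q
        obtain ⟨a, rfl⟩ := QuotientGroup.mk_surjective p
        obtain ⟨b, rfl⟩ := QuotientGroup.mk_surjective q
        rw [← QuotientGroup.mk_mul, ← QuotientGroup.mk_mul, QuotientGroup.eq, Subgroup.mem_subgroupOf]
        have h1 := h.ab _ (K.inv_mem b.2) _ (K.inv_mem a.2)
        push_cast
        rw [mul_inv_rev]
        simpa [mul_assoc] using h1 }
  let π := QuotientGroup.mk' N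
  obtain ⟨p, hp⟩ := QuotientGroup.mk'_surjective N (∏ s, π (restrAut φ K h.stK s k))
  have hpN : (p : G) ∈ L := by
    refine h.fixed p p.2 fun t => ?_
    let qt : K ⧸ N →* K ⧸ N := QuotientGroup.map N N (restrAut φ K h.stK t).toMonoidHom
      fun x hx => h.stL t _ hx
    have h2 : qt (π p) = π p := by
      rw [hp, map_prod]
      refine Fintype.prod_equiv (Equiv.mulLeft t) _ _ fun s => ?_
      show π (restrAut φ K h.stK t (restrAut φ K h.stK s k)) = π (restrAut φ K h.stK (t * s) k)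
      rw [map_mul, MulAut.mul_apply]
    have h3 : (restrAut φ K h.stK t p : K) / p ∈ N := QuotientGroup.eq_iff_div_mem.mp h2
    rw [div_eq_mul_inv] at h3
    exact h3
  have h4 : π p = 1 := (QuotientGroup.eq_one_iff p).mpr hpN
  have h5 := congrArg (QuotientGroup.lift N l fun x hx => hl x hx) (hp.symm.trans h4)
  rw [map_prod, map_one] at h5
  exact h5

theorem pow_card_eq_one_of_fixed [L.Normal] [Fintype S] {A : Type*} [CommGroup A] (l : K →* A)
    (hl : ∀ k : K, (k : G) ∈ L → l k = 1) (k : K)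
    (hs : ∀ s, l (restrAut φ K h.stK s k) = l k) : l k ^ Nat.card S = 1 := by
  have h1 := h.prod_hom_eq_one l hl k
  rwa [Finset.prod_congr rfl fun s _ => hs s, Finset.prod_const, Finset.card_univ,
    ← Nat.card_eq_fintype_card] at h1

theorem eq_one_of_fixed [L.Normal] [Finite G] [Fintype S] {A : Type*} [CommGroup A] (l : K →* A)
    (hl : ∀ k : K, (k : G) ∈ L → l k = 1) (k : K)
    (hs : ∀ s, l (restrAut φ K h.stK s k) = l k) : l k = 1 := by
  have h1 := orderOf_dvd_of_pow_eq_one (h.pow_card_eq_one_of_fixed l hl k hs)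
  have h2 : orderOf (l k) ∣ Nat.card G :=
    (orderOf_map_dvd l k).trans ((orderOf_dvd_natCard k).trans K.card_subgroup_dvd_card)
  rw [← orderOf_eq_one_iff]
  exact Nat.eq_one_of_dvd_coprimes h.cop h1 h2

end OddSetup

variable {G S : Type*} [Group G] [Group S] [Fintype G]

theorem pow_apply_fix (φ : S →* MulAut G) (s : S) {c : G} (hc : φ s c = c) :
    ∀ j : ℕ, φ (s ^ j) c = c
  | 0 => by rw [pow_zero, map_one]; rfl
  | j + 1 => by rw [pow_succ, map_mul, MulAut.mul_apply, hc]; exact pow_apply_fix φ s hc j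

/-- Constituents of an invariant character on a normal subgroup supplemented by fixed points. -/
theorem constituent_invariant (φ : S →* MulAut G) (N : Subgroup G) [N.Normal] [Fintype N]
    (hstab : ∀ s, ∀ n ∈ N, φ s n ∈ N) (hcop : (Nat.card S).Coprime (Nat.card G))
    (hdec : ∀ g : G, ∃ n ∈ N, ∃ c, (∀ s, φ s c = c) ∧ g = n * c) {χ : Cfsg.IrrCharacter G}
    (hχ : IsInvariant φ χ) {θ : Cfsg.IrrCharacter N}
    (hθ : classInner (fun n : N => (χ : G → ℂ) n) (θ : N → ℂ) ≠ 0) : InvOn φ N (θ : N → ℂ) := by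
  intro s n n' hn'
  let r := restrAut φ N hstab s
  have hθr : classInner (fun m : N => (χ : G → ℂ) m) ((θ : N → ℂ) ∘ (r : N ≃* N)) ≠ 0 := by
    rw [show (fun m : N => (χ : G → ℂ) m) = (fun m : N => (χ : G → ℂ) m) ∘ (r : N ≃* N) from
      funext fun m => (hχ s m).symm, classInner_comp_mulEquiv]
    exact hθ
  obtain ⟨g, hg⟩ := exists_conj_of_constituents N χ.2 θ.2 (isIrr_comp_mulEquiv θ.2 r) hθ hθr
  obtain ⟨a, ha, c, hc, rfl⟩ := hdec g
  rw [← conjFun_conjFun, conjFun_of_mem N (isClassFunction_of_isIrr θ.2) ha] at hg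
  -- iterate: `θ ∘ φ (s ^ j) = θ` conjugated by `c ^ j`
  have key : ∀ (j : ℕ) (m : N) (x y : N), (x : G) = φ (s ^ j) m → (y : G) = c ^ j * m * (c ^ j)⁻¹ →
      (θ : N → ℂ) x = (θ : N → ℂ) y := by
    intro j
    induction j with
    | zero =>
      intro m x y hx hy
      rw [pow_zero, map_one] at hx
      rw [pow_zero, one_mul, inv_one, mul_one] at hy
      exact congrArg _ (Subtype.ext (hx.trans hy.symm))
    | succ j ih =>
      intro m x y hx hy
      have h1 := congrFun hg ⟨φ (s ^ j) m, hstab _ _ m.2⟩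
      rw [conjFun_apply] at h1
      rw [show x = r ⟨φ (s ^ j) m, hstab _ _ m.2⟩ from Subtype.ext (by
        rw [hx, pow_succ', map_mul, MulAut.mul_apply]; rfl)]
      refine h1.symm.trans ?_
      refine ih ⟨c * m * c⁻¹, Subgroup.Normal.conj_mem ‹_› _ m.2 c⟩ _ _ ?_ ?_
      · show c * φ (s ^ j) m * c⁻¹ = φ (s ^ j) (c * m * c⁻¹)
        rw [map_mul, map_mul, map_inv, pow_apply_fix φ s (hc s) j]
      · show (y : G) = c ^ j * (c * m * c⁻¹) * (c ^ j)⁻¹
        rw [hy, pow_succ]; group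
  obtain ⟨m, hm1, hm2⟩ := Nat.chineseRemainder hcop 1 0
  have hs : s ^ m = s := by
    rcases Nat.eq_zero_or_pos (Nat.card S) with h0 | h0
    · rw [h0] at hm1
      rw [Nat.modEq_zero_iff.mp hm1, pow_one]
    · have : Finite S := Nat.finite_of_card_ne_zero h0.ne'
      conv_rhs => rw [← pow_one s]
      exact pow_eq_pow_iff_modEq.mpr (hm1.of_dvd (orderOf_dvd_natCard s))
  refine key m n n' n (by rw [hs]; exact hn') ?_
  rw [show c ^ m = 1 from (orderOf_dvd_iff_pow_eq_one).mp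
    ((orderOf_dvd_natCard c).trans (Nat.modEq_zero_iff_dvd.mp hm2)), one_mul, inv_one, mul_one]

omit [Fintype G] in
/-- A difference `f - 2 ν` of norm one is a signed irreducible character. -/
theorem signed_irr {H : Type*} [Group H] [Fintype H] {f ν : H → ℂ} (hf : Cfsg.IsCharacter H f)
    (hν : Cfsg.IsCharacter H ν)
    (h1 : classInner (fun x => f x - 2 * ν x) (fun x => f x - 2 * ν x) = 1) :
    ∃ (ε : ℂ) (ψ : Cfsg.IrrCharacter H), (ε = 1 ∨ ε = -1) ∧
      (∀ x, f x - 2 * ν x = ε * (ψ : H → ℂ) x) ∧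
      ∀ (ψ' : Cfsg.IrrCharacter H) (m : ℕ), classInner f (ψ' : H → ℂ) = m → (Odd m ↔ ψ' = ψ) := by
  classical
  set δ : H → ℂ := fun x => f x - 2 * ν x with hδdef
  have hδe : δ = f - (2 : ℂ) • ν := rfl
  have hcf : Cfsg.IsClassFunction H δ := hδe ▸ isClassFunction_sub
    (isClassFunction_of_isCharacter hf) (isClassFunction_smul (isClassFunction_of_isCharacter hν) _)
  obtain ⟨a, -, ha⟩ := char_decomp hf
  obtain ⟨b, -, hb⟩ := char_decomp hν
  let c : Cfsg.IrrCharacter H → ℤ := fun ψ => (a ψ : ℤ) - 2 * (b ψ : ℤ)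
  have hc : ∀ ψ : Cfsg.IrrCharacter H, classInner δ (ψ : H → ℂ) = (c ψ : ℂ) := fun ψ => by
    rw [hδe, classInner_sub_left, classInner_smul_left, ha, hb]
    simp [c]
  have hsq : ∑ ψ, c ψ ^ 2 = 1 := by
    have h2 := classInner_eq_sum (f' := δ) hcf
    rw [h1] at h2
    simp only [hc, map_intCast, ← pow_two] at h2
    exact_mod_cast h2.symm
  obtain ⟨ψ, hψ⟩ : ∃ ψ, c ψ ≠ 0 := by
    by_contra hn
    push Not at hn
    simp [hn] at hsq
  have hrest : c ψ ^ 2 = 1 ∧ ∀ ψ', ψ' ≠ ψ → c ψ' = 0 := by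
    rw [← Finset.add_sum_erase _ _ (Finset.mem_univ ψ)] at hsq
    have h2 : (1 : ℤ) ≤ c ψ ^ 2 := sq_pos_of_ne_zero hψ
    have h3 : (0 : ℤ) ≤ ∑ x ∈ Finset.univ.erase ψ, c x ^ 2 :=
      Finset.sum_nonneg fun x _ => sq_nonneg _
    refine ⟨le_antisymm (by linarith) h2, fun ψ' hne => ?_⟩
    have h4 : ∑ x ∈ Finset.univ.erase ψ, c x ^ 2 = 0 := by linarith
    exact sq_eq_zero_iff.mp ((Finset.sum_eq_zero_iff_of_nonneg fun x _ => sq_nonneg _).mp h4 ψ'
      (Finset.mem_erase.mpr ⟨hne, Finset.mem_univ _⟩))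
  refine ⟨(c ψ : ℂ), ψ, ?_, fun x => ?_, fun ψ' m hm => ?_⟩
  · rcases sq_eq_one_iff.mp hrest.1 with e | e <;> simp [e]
  · show δ x = _
    have h2 := congrFun (classFun_eq_sum hcf) x
    simp only [hc, Finset.sum_apply, Pi.smul_apply, smul_eq_mul] at h2
    rw [h2, Finset.sum_eq_single ψ (fun ψ' _ hne => by simp [hrest.2 ψ' hne]) (by simp)]
  · have hm' : a ψ' = m := by exact_mod_cast (ha ψ').symm.trans hm
    constructor
    · rintro ⟨j, hj⟩
      by_contra hne
      have h2 : (a ψ' : ℤ) - 2 * (b ψ' : ℤ) = 0 := hrest.2 ψ' hne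
      omega
    · rintro rfl
      rcases sq_eq_one_iff.mp hrest.1 with e | e <;> simp only [c] at e <;>
        rw [Nat.odd_iff] <;> omega

omit [Fintype G] in
/-- The twisted trace of an involution commuting with a representation. -/
theorem exists_neg_part {H : Type*} [Group H] {V : Type*} [AddCommGroup V] [Module ℂ V]
    [FiniteDimensional ℂ V] (ρ : Representation ℂ H V) (J : Module.End ℂ V) (hJ : J * J = 1)
    (hc : ∀ x, J * ρ x = ρ x * J) :
    ∃ ν : H → ℂ, Cfsg.IsCharacter H ν ∧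
      ∀ x, LinearMap.trace ℂ V (J * ρ x) = ρ.character x - 2 * ν x := by
  let E : Module.End ℂ V := (2⁻¹ : ℂ) • (1 - J)
  have hEc : ∀ x, E * ρ x = ρ x * E := fun x => by
    simp only [E, smul_mul_assoc, mul_smul_comm, sub_mul, mul_sub, one_mul, mul_one, hc]
  have hEE : E * E = E := by
    simp only [E, smul_mul_smul_comm, sub_mul, mul_sub, one_mul, mul_one, hJ]
    rw [show (1 : Module.End ℂ V) - J - (J - 1) = (2 : ℂ) • (1 - J) by rw [two_smul]; abel, smul_smul]
    norm_num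
  let W : Subrepresentation ρ := ⟨LinearMap.range E, by
    rintro x _ ⟨v, rfl⟩
    exact ⟨ρ x v, LinearMap.congr_fun (hEc x) v⟩⟩
  refine ⟨W.toRepresentation.character, isCharacter_char _, fun x => ?_⟩
  have hmem : ∀ v, (ρ x * E) v ∈ LinearMap.range E := fun v =>
    ⟨ρ x v, LinearMap.congr_fun (hEc x) v⟩
  have h1 : LinearMap.trace ℂ _ (W.toRepresentation x) = LinearMap.trace ℂ V (ρ x * E) := by
    rw [← LinearMap.trace_restrict_eq_of_forall_mem (LinearMap.range E) (ρ x * E) hmem]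
    congr 1
    refine LinearMap.ext fun v => Subtype.ext ?_
    obtain ⟨w, hw⟩ := v.2
    show ρ x (v : V) = ρ x (E (v : V))
    rw [← hw, ← Module.End.mul_apply E E, hEE]
  show _ = LinearMap.trace ℂ V (ρ x) - 2 * LinearMap.trace ℂ _ (W.toRepresentation x)
  rw [h1, ← hEc, ← smul_eq_mul (2 : ℂ), ← map_smul, ← map_sub]
  congr 1
  simp only [E, smul_mul_assoc, smul_smul, sub_mul, one_mul]
  norm_num

end CfsgLib.CharBlocks.OddStep
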