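import Cfsg.Agent.Lib.CharBlocks.OddStep.Core

/-!
# The odd abelian step of the correspondence by odd multiplicity

* `exists_fixed_constituent`: an invariant constituent on `L`;
* `OddSetup.restrict`: the configuration in the inertia group;
* `correspondence`: the bijection.
-/

set_option autoImplicit false

noncomputable section

namespace CfsgLib.CharBlocks.OddStep

open Cfsg CfsgLib.Char CfsgLib.CharNormal
open CfsgLib.CharBlocks.RelGlauberman (InvOn classInner_ne_zero_trans exists_clifford_down exists_clifford_up over_conj_C)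

universe u v

variable {G : Type u} {S : Type v} [Group G] [Group S] {φ : S →* MulAut G} {K L H : Subgroup G}
  [K.Normal] [L.Normal]

/-- An invariant character of `K` has an invariant constituent on `L`. -/
theorem exists_fixed_constituent [Fintype G] [Finite S] [Fintype K] [Fintype L]
    (h : OddSetup φ K L H) (θ : Cfsg.IrrCharacter K) (hθ : InvOn φ K (θ : K → ℂ)) :
    ∃ ϕ : Cfsg.IrrCharacter L, InvOn φ L (ϕ : L → ℂ) ∧
      classInner (fun l : L => (θ : K → ℂ) ⟨l, h.le l.2⟩) (ϕ : L → ℂ) ≠ 0 := by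
  classical
  let N := L.subgroupOf K
  have := Fintype.ofFinite N
  let ψ := restrAut φ K h.stK
  have hstN : ∀ s, ∀ n ∈ N, ψ s n ∈ N := fun s n hn => h.stL s _ hn
  let ψN := restrAut ψ N hstN
  let _ : CommGroup (K ⧸ N) :=
    { (inferInstance : Group (K ⧸ N)) with
      mul_comm := by
        intro p q
        obtain ⟨a, rfl⟩ := QuotientGroup.mk_surjective p
        obtain ⟨b, rfl⟩ := QuotientGroup.mk_surjective q
        rw [← QuotientGroup.mk_mul, ← QuotientGroup.mk_mul, QuotientGroup.eq, Subgroup.mem_subgroupOf]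
        have h1 := h.ab _ (K.inv_mem b.2) _ (K.inv_mem a.2)
        push_cast
        rw [mul_inv_rev]
        simpa [mul_assoc] using h1 }
  let toPerm : K →* Equiv.Perm (Cfsg.IrrCharacter N) :=
    { toFun := fun k =>
        { toFun := conjIrr N k⁻¹
          invFun := conjIrr N k
          left_inv := fun y => Subtype.ext (conjFun_conjFun_inv N k _)
          right_inv := fun y => Subtype.ext (conjFun_inv_conjFun N k _) }
      map_one' := Equiv.ext fun y => Subtype.ext (by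
        show conjFun N (1 : K)⁻¹ (y : N → ℂ) = y
        rw [inv_one, conjFun_one])
      map_mul' := fun a b => Equiv.ext fun y => Subtype.ext (by
        show conjFun N (a * b)⁻¹ (y : N → ℂ) = conjFun N a⁻¹ (conjFun N b⁻¹ (y : N → ℂ))
        rw [conjFun_conjFun, mul_inv_rev]) }
  let _ : MulAction (K ⧸ N) (Cfsg.IrrCharacter N) :=
    MulAction.compHom _ (QuotientGroup.lift N toPerm fun n hn => Equiv.ext fun y => Subtype.ext
      (conjFun_of_mem N (isClassFunction_of_isIrr y.2) (N.inv_mem hn)))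
  have hsmul : ∀ (k : K) (y : Cfsg.IrrCharacter N),
      (((k : K ⧸ N) • y : Cfsg.IrrCharacter N) : N → ℂ) = conjFun N k⁻¹ (y : N → ℂ) := fun _ _ => rfl
  let qψ : S → (K ⧸ N →* K ⧸ N) := fun s =>
    QuotientGroup.map N N (ψ s).toMonoidHom fun n hn => hstN s n hn
  let _ : MulDistribMulAction S (K ⧸ N) :=
    { smul := fun s q => qψ s q
      one_smul := fun q => by
        obtain ⟨k, rfl⟩ := QuotientGroup.mk_surjective q
        show ((ψ 1 k : K) : K ⧸ N) = k
        rw [map_one]; rfl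
      mul_smul := fun s t q => by
        obtain ⟨k, rfl⟩ := QuotientGroup.mk_surjective q
        show ((ψ (s * t) k : K) : K ⧸ N) = ((ψ s (ψ t k) : K) : K ⧸ N)
        rw [map_mul]; rfl
      smul_mul := fun s a b => map_mul (qψ s) a b
      smul_one := fun s => map_one (qψ s) }
  let _ : MulAction S (Cfsg.IrrCharacter N) := irrAction ψN
  have hcompat : ∀ (s : S) (l : K ⧸ N) (x : Cfsg.IrrCharacter N),
      s • (l • x) = (s • l) • (s • x) := by
    intro s l x
    obtain ⟨k, rfl⟩ := QuotientGroup.mk_surjective l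
    refine Subtype.ext (funext fun n => ?_)
    show (x : N → ℂ) _ = (x : N → ℂ) _
    refine congrArg (x : N → ℂ) (Subtype.ext (Subtype.ext ?_))
    show (k : G)⁻¹ * φ s⁻¹ ((n : K) : G) * (k : G)⁻¹⁻¹ =
      φ s⁻¹ ((φ s (k : G))⁻¹ * ((n : K) : G) * (φ s (k : G))⁻¹⁻¹)
    simp only [map_mul, map_inv, inv_inv, MulAut.inv_apply, MulEquiv.symm_apply_apply]
  obtain ⟨y, hy, hy0⟩ := exists_constituent (isCharacter_res N (isCharacter_of_isIrr θ.2))
    (fun e => irr_one_ne_zero θ.2 (congrFun e 1))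
  have hx : ∀ s : S, ∃ l : K ⧸ N, s • (⟨y, hy⟩ : Cfsg.IrrCharacter N) = l • ⟨y, hy⟩ := by
    intro s
    have h1 : classInner (fun n : N => (θ : K → ℂ) n) (y ∘ (ψN s⁻¹ : N ≃* N)) ≠ 0 := by
      rw [show (fun n : N => (θ : K → ℂ) n) = (fun n : N => (θ : K → ℂ) n) ∘ (ψN s⁻¹ : N ≃* N) from
        funext fun n => (hθ s⁻¹ n _ rfl).symm, classInner_comp_mulEquiv]
      exact hy0
    obtain ⟨k, hk⟩ := exists_conj_of_constituents N θ.2 hy (isIrr_comp_mulEquiv hy _) hy0 h1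
    refine ⟨((k⁻¹ : K) : K ⧸ N), Subtype.ext ?_⟩
    rw [hsmul, inv_inv]
    exact hk.symm
  obtain ⟨l, hl⟩ := exists_fixed_of_cocycle (Λ := K ⧸ N) (⊥ : Subgroup S) (⟨y, hy⟩ : Cfsg.IrrCharacter N)
    (fun s hs q => by rw [Subgroup.mem_bot] at hs; rw [hs, one_smul])
    (fun s hs => by rw [Subgroup.mem_bot] at hs; rw [hs, one_smul]) hcompat
    (by
      rw [Subgroup.index_bot, ← Subgroup.index_eq_card]
      exact (h.cop.coprime_dvd_right ((Subgroup.index_dvd_card N).trans K.card_subgroup_dvd_card)).symm)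
    hx
  obtain ⟨k, rfl⟩ := QuotientGroup.mk_surjective l
  let eN : N ≃* L := Subgroup.subgroupOfEquivOfLe h.le
  set z : Cfsg.IrrCharacter N := (k : K ⧸ N) • ⟨y, hy⟩ with hz
  refine ⟨⟨(z : N → ℂ) ∘ eN.symm, isIrr_comp_mulEquiv z.2 eN.symm⟩, fun s c c' hc => ?_, ?_⟩
  · show (z : N → ℂ) (eN.symm c') = (z : N → ℂ) (eN.symm c)
    have h1 := congrFun (congrArg Subtype.val (hl s⁻¹)) (eN.symm c)
    refine Eq.trans ?_ h1
    show _ = (z : N → ℂ) (ψN s⁻¹⁻¹ (eN.symm c))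
    refine congrArg _ (Subtype.ext (Subtype.ext ?_))
    show (c' : G) = φ s⁻¹⁻¹ (c : G)
    rw [inv_inv, hc]
  · rw [show (fun l : L => (θ : K → ℂ) ⟨l, h.le l.2⟩) = (fun n : N => (θ : K → ℂ) n) ∘ eN.symm from rfl,
      classInner_comp_mulEquiv, hz, hsmul, classInner_res_conjFun N (isClassFunction_of_isIrr θ.2)]
    exact hy0

/-- An element is in the inertia group once it is fixed modulo it. -/
theorem mem_inertia_of_fixed [Finite G] [Finite S] (h : OddSetup φ K L H) {T : Subgroup G} (hLT : L ≤ T)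
    {k : G} (hk : k ∈ K) (hs : ∀ s, φ s k * k⁻¹ ∈ T) : k ∈ T := by
  classical
  have := Fintype.ofFinite S
  let T' := T.subgroupOf K
  have hcomm : ∀ a b : K, a⁻¹ * b⁻¹ * a * b ∈ L.subgroupOf K := fun a b => by
    rw [Subgroup.mem_subgroupOf]
    have h1 := h.ab _ (K.inv_mem a.2) _ (K.inv_mem b.2)
    simpa [mul_assoc] using h1
  have hT' : T'.Normal := ⟨fun n hn g => by
    have h1 : g⁻¹⁻¹ * n⁻¹⁻¹ * g⁻¹ * n⁻¹ ∈ T' := hLT (hcomm g⁻¹ n⁻¹)
    simpa [mul_assoc] using T'.mul_mem h1 hn⟩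
  let _ : CommGroup (K ⧸ T') :=
    { (inferInstance : Group (K ⧸ T')) with
      mul_comm := by
        intro p q
        obtain ⟨a, rfl⟩ := QuotientGroup.mk_surjective p
        obtain ⟨b, rfl⟩ := QuotientGroup.mk_surjective q
        rw [← QuotientGroup.mk_mul, ← QuotientGroup.mk_mul, QuotientGroup.eq]
        have h1 : b⁻¹ * a⁻¹ * b * a ∈ T' := hLT (hcomm b a)
        simpa [mul_assoc] using h1 }
  have h1 := h.eq_one_of_fixed (QuotientGroup.mk' T')
    (fun x hx => (QuotientGroup.eq_one_iff x).mpr (hLT hx)) ⟨k, hk⟩ fun s => by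
      show ((restrAut φ K h.stK s ⟨k, hk⟩ : K) : K ⧸ T') = ((⟨k, hk⟩ : K) : K ⧸ T')
      rw [QuotientGroup.eq_iff_div_mem, div_eq_mul_inv]
      exact hs s
  exact (QuotientGroup.eq_one_iff (⟨k, hk⟩ : K)).mp h1

/-- The configuration in an invariant subgroup above `L`. -/
theorem OddSetup.restrict [Finite G] [Finite S] (h : OddSetup φ K L H) {T : Subgroup G} (hLT : L ≤ T)
    (hst : ∀ s, ∀ t ∈ T, φ s t ∈ T) :
    OddSetup (restrAut φ T hst) (K.subgroupOf T) (L.subgroupOf T) (H.subgroupOf T) where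
  odd := h.odd.of_dvd_nat T.card_subgroup_dvd_card
  cop := h.cop.coprime_dvd_right T.card_subgroup_dvd_card
  le := fun x hx => h.le hx
  ab := fun a ha b hb => h.ab _ ha _ hb
  stK := fun s k hk => h.stK s _ hk
  stL := fun s l hl => h.stL s _ hl
  decomp := fun t => by
    obtain ⟨k, hk, c, hc, htc⟩ := h.decomp (t : G)
    have hkT : k ∈ T := mem_inertia_of_fixed h hLT hk fun s => by
      have h1 := T.mul_mem (hst s _ t.2) (T.inv_mem t.2)
      rwa [htc, map_mul, hc, mul_inv_rev, mul_assoc, mul_inv_cancel_left] at h1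
    have hcT : c ∈ T := by
      have h1 := T.mul_mem (T.inv_mem hkT) t.2
      rwa [htc, inv_mul_cancel_left] at h1
    exact ⟨⟨k, hkT⟩, hk, ⟨c, hcT⟩, fun s => Subtype.ext (hc s), Subtype.ext htc⟩
  mem_H := fun x => by
    constructor
    · intro hx
      obtain ⟨l, hl, c, hc, he⟩ := (h.mem_H (x : G)).mp hx
      have hcT : c ∈ T := by
        have h1 := T.mul_mem (T.inv_mem (hLT hl)) x.2
        rwa [he, inv_mul_cancel_left] at h1
      exact ⟨⟨l, hLT hl⟩, hl, ⟨c, hcT⟩, fun s => Subtype.ext (hc s), Subtype.ext he⟩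
    · rintro ⟨l, hl, c, hc, rfl⟩
      exact (h.mem_H _).mpr ⟨l, hl, c, fun s => congrArg Subtype.val (hc s), rfl⟩
  fixed := fun k hk hs => h.fixed _ hk hs

set_option maxHeartbeats 1000000 in
/-- Everything over one invariant character of `L`. -/
theorem over_phi [Fintype G] [Finite S] [Fintype L] [Fintype H] (h : OddSetup φ K L H)
    (ϕ : Cfsg.IrrCharacter L) (hϕS : InvOn φ L (ϕ : L → ℂ)) :
    (∀ χ : Cfsg.IrrCharacter G, IsInvariant φ χ →
      classInner (fun l : L => (χ : G → ℂ) l) (ϕ : L → ℂ) ≠ 0 →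
      ∃ ψ : Cfsg.IrrCharacter H, InvOn φ H (ψ : H → ℂ) ∧ Odd (mult H.subtype χ ψ) ∧
        ∀ ψ' : Cfsg.IrrCharacter H,
          classInner (fun l : L => (ψ' : H → ℂ) ⟨l, h.le_H l.2⟩) (ϕ : L → ℂ) ≠ 0 →
          Odd (mult H.subtype χ ψ') → ψ' = ψ) ∧
    ∀ ψ : Cfsg.IrrCharacter H, InvOn φ H (ψ : H → ℂ) →
      classInner (fun l : L => (ψ : H → ℂ) ⟨l, h.le_H l.2⟩) (ϕ : L → ℂ) ≠ 0 →
      ∃ χ : Cfsg.IrrCharacter G, IsInvariant φ χ ∧ Odd (mult H.subtype χ ψ) ∧
        ∀ χ' : Cfsg.IrrCharacter G, IsInvariant φ χ' →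
          classInner (fun l : L => (χ' : G → ℂ) l) (ϕ : L → ℂ) ≠ 0 →
          Odd (mult H.subtype χ' ψ) → χ' = χ := by
  classical
  have hLH := h.le_H
  let T := inertia L (ϕ : L → ℂ)
  have hT : ∀ g : G, g ∈ T ↔ conjFun L g (ϕ : L → ℂ) = ϕ := fun g => mem_inertia L
  have hLT : L ≤ T := le_inertia L (isClassFunction_of_isIrr ϕ.2)
  have hTst : ∀ s, ∀ t ∈ T, φ s t ∈ T := fun s t ht => (hT _).mpr (funext fun q => by
    have hq' : φ s⁻¹ (q : G) ∈ L := h.stL s⁻¹ q q.2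
    have hss : φ s (φ s⁻¹ (q : G)) = q := by
      rw [← MulAut.mul_apply, ← map_mul, mul_inv_cancel, map_one]; rfl
    rw [hϕS s ⟨_, hq'⟩ q hss.symm, conjFun_apply,
      ← congrFun ((hT t).mp ht) ⟨φ s⁻¹ (q : G), hq'⟩, conjFun_apply]
    refine hϕS s ⟨_, (inferInstance : L.Normal).conj_mem _ hq' t⟩ _ ?_
    show φ s t * (q : G) * (φ s t)⁻¹ = φ s (t * φ s⁻¹ (q : G) * t⁻¹)
    rw [map_mul, map_mul, hss, map_inv])
  have := Fintype.ofFinite T
  have := Fintype.ofFinite (L.subgroupOf T)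
  have := Fintype.ofFinite (H.subgroupOf T)
  have := Fintype.ofFinite (L.subgroupOf H)
  have := Fintype.ofFinite (T.subgroupOf H)
  let φT := restrAut φ T hTst
  have hr := h.restrict hLT hTst
  let eT : L.subgroupOf T ≃* L := Subgroup.subgroupOfEquivOfLe hLT
  let ϕT : Cfsg.IrrCharacter (L.subgroupOf T) :=
    ⟨(ϕ : L → ℂ) ∘ eT, isIrr_comp_mulEquiv ϕ.2 eT⟩
  let OT : Cfsg.IrrCharacter T → Prop := fun η =>
    classInner (fun q : L => (η : T → ℂ) ⟨q, hLT q.2⟩) (ϕ : L → ℂ) ≠ 0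
  let OU : Cfsg.IrrCharacter (H.subgroupOf T) → Prop := fun ν =>
    classInner (fun q : L => (ν : H.subgroupOf T → ℂ) ⟨⟨q, hLT q.2⟩, hLH q.2⟩) (ϕ : L → ℂ) ≠ 0
  obtain ⟨cdown, cup⟩ := core_correspondence hr ϕT
    (fun g => funext fun q => congrFun ((hT g).mp g.2) (eT q))
    (fun s c c' hc => hϕS s (eT c) (eT c') (congrArg Subtype.val hc))
  have hOT : ∀ η : Cfsg.IrrCharacter T,
      classInner (fun q : L.subgroupOf T => (η : T → ℂ) q) (ϕT : L.subgroupOf T → ℂ) ≠ 0 ↔ OT η :=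
    fun η => by
    show classInner (fun q : L.subgroupOf T => (η : T → ℂ) q) ((ϕ : L → ℂ) ∘ eT) ≠ 0 ↔ _
    rw [show (fun q : L.subgroupOf T => (η : T → ℂ) q) =
      (fun q : L => (η : T → ℂ) ⟨q, hLT q.2⟩) ∘ eT from rfl, classInner_comp_mulEquiv]
  have hOU : ∀ ν : Cfsg.IrrCharacter (H.subgroupOf T),
      classInner (fun q : L.subgroupOf T => (ν : H.subgroupOf T → ℂ) ⟨q, hr.le_H q.2⟩)
        (ϕT : L.subgroupOf T → ℂ) ≠ 0 ↔ OU ν := fun ν => by
    show classInner (fun q : L.subgroupOf T => (ν : H.subgroupOf T → ℂ) ⟨q, hr.le_H q.2⟩)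
      ((ϕ : L → ℂ) ∘ eT) ≠ 0 ↔ _
    rw [show (fun q : L.subgroupOf T => (ν : H.subgroupOf T → ℂ) ⟨q, hr.le_H q.2⟩) =
      (fun q : L => (ν : H.subgroupOf T → ℂ) ⟨⟨q, hLT q.2⟩, hLH q.2⟩) ∘ eT from rfl,
      classInner_comp_mulEquiv]
  -- the inertia group inside `H`
  let eH : L.subgroupOf H ≃* L := Subgroup.subgroupOfEquivOfLe hLH
  have hϕH : Cfsg.IsIrrCharacter (L.subgroupOf H) ((ϕ : L → ℂ) ∘ eH) := isIrr_comp_mulEquiv ϕ.2 eH
  have hTH : ∀ c : H, c ∈ T.subgroupOf H ↔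
      conjFun (L.subgroupOf H) c ((ϕ : L → ℂ) ∘ eH) = (ϕ : L → ℂ) ∘ eH := by
    intro c
    rw [Subgroup.mem_subgroupOf, hT]
    constructor
    · exact fun hc => funext fun q => congrFun hc (eH q)
    · intro hc
      refine funext fun q => ?_
      obtain ⟨q', rfl⟩ := eH.surjective q
      exact congrFun hc q'
  have hLTH : L.subgroupOf H ≤ T.subgroupOf H := fun q hq => hLT hq
  let E : T.subgroupOf H ≃* H.subgroupOf T :=
    { toFun := fun x => ⟨⟨((x : H) : G), x.2⟩, (x : H).2⟩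
      invFun := fun x => ⟨⟨((x : T) : G), x.2⟩, (x : T).2⟩
      left_inv := fun _ => rfl
      right_inv := fun _ => rfl
      map_mul' := fun _ _ => rfl }
  let j : H.subgroupOf T →* H :=
    { toFun := fun x => ⟨((x : T) : G), x.2⟩
      map_one' := rfl
      map_mul' := fun _ _ => rfl }
  let rH := fun s => restrAut φ H h.stH s
  let rU := fun s => restrAut φT (H.subgroupOf T) hr.stH s
  have hjr : ∀ (s : S) (x : H.subgroupOf T), j (rU s x) = rH s (j x) := fun _ _ => rfl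
  have downH : ∀ β : Cfsg.IrrCharacter H,
      classInner (fun l : L => (β : H → ℂ) ⟨l, hLH l.2⟩) (ϕ : L → ℂ) ≠ 0 →
      ∃ ν, OU ν ∧ (InvOn φ H (β : H → ℂ) → InvOn φT (H.subgroupOf T) (ν : H.subgroupOf T → ℂ)) ∧
        ∀ f : H → ℂ, Cfsg.IsClassFunction H f →
          classInner f (β : H → ℂ) = classInner (f ∘ j) (ν : H.subgroupOf T → ℂ) := by
    intro β hβ
    obtain ⟨η, hη, he, h1, hu⟩ := exists_clifford_down (L.subgroupOf H) (T.subgroupOf H) hϕH hTH hLTH
      β.2 (by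
        intro h0
        refine hβ ?_
        rw [← classInner_comp_mulEquiv eH, ← h0]
        rfl)
    refine ⟨⟨(η : T.subgroupOf H → ℂ) ∘ E.symm, isIrr_comp_mulEquiv η.2 E.symm⟩, ?_, ?_, ?_⟩
    · intro h0
      refine hη ?_
      rw [← h0, ← classInner_comp_mulEquiv eH]
      rfl
    · intro hβS s x x' hx
      let μ : Cfsg.IrrCharacter (T.subgroupOf H) :=
        ⟨((η : T.subgroupOf H → ℂ) ∘ E.symm ∘ (rU s : H.subgroupOf T ≃* H.subgroupOf T)) ∘ E,
          isIrr_comp_mulEquiv (isIrr_comp_mulEquiv (isIrr_comp_mulEquiv η.2 E.symm) _) E⟩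
      have h2 := hu μ ?_ ?_
      · have h3 := congrFun (congrArg Subtype.val h2) (E.symm x)
        rw [show x' = rU s x from Subtype.ext (Subtype.ext (congrArg Subtype.val hx))]
        simpa [μ] using h3
      · let c : T.subgroupOf H ≃* T.subgroupOf H := (E.trans (rU s)).trans E.symm
        rw [show (μ : T.subgroupOf H → ℂ) = (η : T.subgroupOf H → ℂ) ∘ c from rfl,
          show (fun t : T.subgroupOf H => (β : H → ℂ) t) =
            (fun t : T.subgroupOf H => (β : H → ℂ) t) ∘ c from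
          funext fun t => (hβS s (t : H) _ rfl).symm, classInner_comp_mulEquiv, h1]
        exact one_ne_zero
      · let c : L.subgroupOf H ≃* L.subgroupOf H :=
          (eH.trans (restrAut φ L h.stL s)).trans eH.symm
        rw [show (fun n : L.subgroupOf H => (μ : T.subgroupOf H → ℂ) ⟨n, hLTH n.2⟩) =
            (fun n : L.subgroupOf H => (η : T.subgroupOf H → ℂ) ⟨n, hLTH n.2⟩) ∘ c from rfl,
          show (ϕ : L → ℂ) ∘ eH = ((ϕ : L → ℂ) ∘ eH) ∘ c from
            funext fun n => (hϕS s (eH n) (eH (c n)) rfl).symm, classInner_comp_mulEquiv]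
        exact hη
    · intro f hf
      rw [← he, frobenius_reciprocity' _ _ hf, ← classInner_comp_mulEquiv E]
      refine congrArg₂ classInner rfl (funext fun x => ?_)
      simp only [Function.comp_apply, E.symm_apply_apply]
  have upH : ∀ ν : Cfsg.IrrCharacter (H.subgroupOf T), OU ν →
      InvOn φT (H.subgroupOf T) (ν : H.subgroupOf T → ℂ) →
      ∃ β : Cfsg.IrrCharacter H, InvOn φ H (β : H → ℂ) ∧
      ∀ f : H → ℂ, Cfsg.IsClassFunction H f →
      classInner f (β : H → ℂ) = classInner (f ∘ j) (ν : H.subgroupOf T → ℂ) := by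
    intro ν hν hνS
    obtain ⟨β, -, he, -⟩ := exists_clifford_up (L.subgroupOf H) (T.subgroupOf H) hϕH hTH hLTH
      ⟨(ν : H.subgroupOf T → ℂ) ∘ E, isIrr_comp_mulEquiv ν.2 E⟩ (by
        intro h0
        refine hν ?_
        rw [← classInner_comp_mulEquiv eH, ← h0]
        rfl)
    have key : ∀ f : H → ℂ, Cfsg.IsClassFunction H f →
        classInner f (β : H → ℂ) = classInner (f ∘ j) (ν : H.subgroupOf T → ℂ) := fun f hf => by
      rw [← he, frobenius_reciprocity' _ _ hf, ← classInner_comp_mulEquiv E (f ∘ j)]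
      rfl
    refine ⟨β, fun s c c' hc => ?_, key⟩
    have hirr : Cfsg.IsIrrCharacter H ((β : H → ℂ) ∘ (rH s : H ≃* H)) := isIrr_comp_mulEquiv β.2 _
    have h1 := key _ (isClassFunction_of_isIrr β.2)
    rw [classInner_irr_self β.2] at h1
    have h2 := key _ (isClassFunction_of_isIrr hirr)
    rw [show ((β : H → ℂ) ∘ (rH s : H ≃* H)) ∘ j =
        ((β : H → ℂ) ∘ j) ∘ (rU s : H.subgroupOf T ≃* H.subgroupOf T) from rfl,
      show (ν : H.subgroupOf T → ℂ) =
        (ν : H.subgroupOf T → ℂ) ∘ (rU s : H.subgroupOf T ≃* H.subgroupOf T)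
        from funext fun x => (hνS s x (rU s x) rfl).symm,
      classInner_comp_mulEquiv, ← h1] at h2
    have h3 : (β : H → ℂ) ∘ (rH s : H ≃* H) = β := by
      by_contra hne
      rw [classInner_irr_ne hirr β.2 hne] at h2
      exact zero_ne_one h2
    rw [show c' = rH s c from Subtype.ext hc]
    exact congrFun h3 c
  -- the inertia group in `G`
  have downG : ∀ χ : Cfsg.IrrCharacter G, IsInvariant φ χ →
      classInner (fun l : L => (χ : G → ℂ) l) (ϕ : L → ℂ) ≠ 0 → ∃ η, OT η ∧ IsInvariant φT η ∧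
      Cfsg.indFun T (η : T → ℂ) = χ ∧
      classInner (fun t : T => (χ : G → ℂ) t) (η : T → ℂ) = 1 ∧
      ∀ μ : Cfsg.IrrCharacter T, classInner (fun t : T => (χ : G → ℂ) t) (μ : T → ℂ) ≠ 0 →
        OT μ → μ = η := by
    intro χ hinv hχ
    obtain ⟨η, hη, he, h1, hu⟩ := exists_clifford_down L T ϕ.2 hT hLT χ.2 hχ
    refine ⟨η, hη, fun s g => ?_, he, h1, hu⟩
    have h2 := hu ⟨(η : T → ℂ) ∘ (φT s : T ≃* T), isIrr_comp_mulEquiv η.2 _⟩ ?_ ?_
    · exact congrFun (congrArg Subtype.val h2) g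
    · show classInner (fun t : T => (χ : G → ℂ) t) ((η : T → ℂ) ∘ (φT s : T ≃* T)) ≠ 0
      rw [show (fun t : T => (χ : G → ℂ) t) =
          (fun t : T => (χ : G → ℂ) t) ∘ (φT s : T ≃* T) from funext fun t => (hinv s t).symm,
        classInner_comp_mulEquiv, h1]
      exact one_ne_zero
    · show classInner (fun q : L => (η : T → ℂ) (φT s ⟨q, hLT q.2⟩)) (ϕ : L → ℂ) ≠ 0
      let c := restrAut φ L h.stL s
      rw [show (fun q : L => (η : T → ℂ) (φT s ⟨q, hLT q.2⟩)) =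
          (fun q : L => (η : T → ℂ) ⟨q, hLT q.2⟩) ∘ (c : L ≃* L) from rfl,
        show (ϕ : L → ℂ) = (ϕ : L → ℂ) ∘ (c : L ≃* L) from
          funext fun q => (hϕS s q (c q) rfl).symm,
        classInner_comp_mulEquiv]
      exact hη
  have hsame : ∀ (χ : Cfsg.IrrCharacter G) (η : Cfsg.IrrCharacter T) (β : Cfsg.IrrCharacter H)
      (ν : Cfsg.IrrCharacter (H.subgroupOf T)), OU ν →
      classInner (fun t : T => (χ : G → ℂ) t) (η : T → ℂ) = 1 →
      (∀ μ : Cfsg.IrrCharacter T, classInner (fun t : T => (χ : G → ℂ) t) (μ : T → ℂ) ≠ 0 →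
        OT μ → μ = η) →
      (∀ f : H → ℂ, Cfsg.IsClassFunction H f →
        classInner f (β : H → ℂ) = classInner (f ∘ j) (ν : H.subgroupOf T → ℂ)) →
      mult H.subtype χ β = mult (H.subgroupOf T).subtype η ν := by
    intro χ η β ν hν h1 hu hf
    have h2 := hf _ (isClassFunction_of_isCharacter
      (isCharacter_comp (isCharacter_of_isIrr χ.2) H.subtype))
    obtain ⟨m, hm, hmi⟩ := char_decomp (isCharacter_res T (isCharacter_of_isIrr χ.2))
    have he : ((χ : G → ℂ) ∘ H.subtype) ∘ j = ∑ μ : Cfsg.IrrCharacter T,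
        (m μ : ℂ) • ((μ : T → ℂ) ∘ (H.subgroupOf T).subtype) := funext fun x => by
      show (χ : G → ℂ) ((x : T) : G) = _
      simpa [Finset.sum_apply] using congrFun hm (x : T)
    rw [classInner_eq_mult, he, classInner_sum_left, Finset.sum_eq_single η (fun μ _ hne => ?_)
      (by simp), classInner_smul_left, ← hmi η, h1, one_mul, classInner_eq_mult] at h2
    · exact_mod_cast h2
    · rw [classInner_smul_left, mul_eq_zero]
      by_contra hc
      push Not at hc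
      refine hne (hu μ (by rw [hmi μ]; exact hc.1) ?_)
      let i : L →* H.subgroupOf T :=
        { toFun := fun q => ⟨⟨q, hLT q.2⟩, hLH q.2⟩
          map_one' := rfl
          map_mul' := fun _ _ => rfl }
      show classInner (((μ : T → ℂ) ∘ (H.subgroupOf T).subtype) ∘ i) (ϕ : L → ℂ) ≠ 0
      have hν' : classInner ((ν : H.subgroupOf T → ℂ) ∘ i) (ϕ : L → ℂ) ≠ 0 := hν
      have hμ' : classInner ((μ : T → ℂ) ∘ (H.subgroupOf T).subtype)
          (ν : H.subgroupOf T → ℂ) ≠ 0 := hc.2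
      exact classInner_ne_zero_trans
        (isCharacter_comp (isCharacter_of_isIrr μ.2) (H.subgroupOf T).subtype) ν.2 i ϕ.2 hμ' hν'
  have samebeta : ∀ (β β' : Cfsg.IrrCharacter H) (ν : Cfsg.IrrCharacter (H.subgroupOf T)),
      (∀ f : H → ℂ, Cfsg.IsClassFunction H f →
        classInner f (β : H → ℂ) = classInner (f ∘ j) (ν : H.subgroupOf T → ℂ)) →
      (∀ f : H → ℂ, Cfsg.IsClassFunction H f →
        classInner f (β' : H → ℂ) = classInner (f ∘ j) (ν : H.subgroupOf T → ℂ)) → β' = β := by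
    intro β β' ν hf hf'
    have h3 := (hf' _ (isClassFunction_of_isIrr β'.2)).trans (hf _ (isClassFunction_of_isIrr β'.2)).symm
    rw [classInner_irr_self β'.2] at h3
    by_contra hne
    rw [classInner_irr_ne β'.2 β.2 fun e => hne (Subtype.ext e)] at h3
    exact one_ne_zero h3
  refine ⟨fun χ hinv hχ => ?_, fun ψ hψS hψ => ?_⟩
  · obtain ⟨η, hη, hηi, -, h1, hu⟩ := downG χ hinv hχ
    obtain ⟨ν, hνS, hν, hνodd, hνu⟩ := cdown η hηi ((hOT η).mpr hη)
    have hν' := (hOU ν).mp hν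
    obtain ⟨β, hβS, hf⟩ := upH ν hν' hνS
    refine ⟨β, hβS, by rw [hsame χ η β ν hν' h1 hu hf]; exact hνodd, fun ψ' hψ' hodd => ?_⟩
    obtain ⟨ν', hν', -, hf'⟩ := downH ψ' hψ'
    obtain rfl := hνu ν' (by rw [← hsame χ η ψ' ν' hν' h1 hu hf']; exact hodd)
    exact samebeta β ψ' _ hf hf'
  · obtain ⟨ν, hν, hνS, hf⟩ := downH ψ hψ
    obtain ⟨η, hηi, hη, hodd, hηu⟩ := cup ν (hνS hψS) ((hOU ν).mpr hν)
    have hη' := (hOT η).mp hη
    obtain ⟨χ, hχ, he, h1⟩ := exists_clifford_up L T ϕ.2 hT hLT η hη'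
    have hχinv : IsInvariant φ χ := by
      intro s g
      have hirr : Cfsg.IsIrrCharacter G ((χ : G → ℂ) ∘ (φ s : G ≃* G)) := isIrr_comp_mulEquiv χ.2 _
      have h2 : classInner ((χ : G → ℂ) ∘ (φ s : G ≃* G)) (χ : G → ℂ) = 1 := by
        conv_lhs => arg 2; rw [← he]
        rw [frobenius_reciprocity' _ _ (isClassFunction_of_isIrr hirr),
          show (fun t : T => ((χ : G → ℂ) ∘ (φ s : G ≃* G)) t) =
            (fun t : T => (χ : G → ℂ) t) ∘ (φT s : T ≃* T) from rfl,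
          show (η : T → ℂ) = (η : T → ℂ) ∘ (φT s : T ≃* T) from funext fun t => (hηi s t).symm,
          classInner_comp_mulEquiv, h1]
      by_contra hne
      rw [classInner_irr_ne hirr χ.2 fun e => hne (congrFun e g)] at h2
      exact zero_ne_one h2
    obtain ⟨η', -, -, -, h1', hu⟩ := downG χ hχinv hχ
    have heq := hu η (by rw [h1]; exact one_ne_zero) hη'
    subst heq
    refine ⟨χ, hχinv, by rw [hsame χ η ψ ν hν h1 hu hf]; exact hodd, fun χ' hi' hχ' hodd' => ?_⟩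
    obtain ⟨η'', hη'', hηi'', he'', h1'', hu''⟩ := downG χ' hi' hχ'
    obtain rfl := hηu η'' hηi'' ((hOT η'').mpr hη'')
      (by rw [← hsame χ' η'' ψ ν hν h1'' hu'' hf]; exact hodd')
    exact Subtype.ext (he''.symm.trans he)

/-- The correspondence by odd multiplicity. -/
theorem correspondence [Fintype G] [Finite S] [Fintype H] (h : OddSetup φ K L H) :
    (∀ χ : Cfsg.IrrCharacter G, IsInvariant φ χ →
      ∃! ψ : Cfsg.IrrCharacter H, InvOn φ H (ψ : H → ℂ) ∧ Odd (mult H.subtype χ ψ)) ∧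
    ∀ ψ : Cfsg.IrrCharacter H, InvOn φ H (ψ : H → ℂ) →
      ∃! χ : Cfsg.IrrCharacter G, IsInvariant φ χ ∧ Odd (mult H.subtype χ ψ) := by
  classical
  have := Fintype.ofFinite K
  have := Fintype.ofFinite L
  have := Fintype.ofFinite (L.subgroupOf H)
  have hLH := h.le_H
  have hnz : ∀ (χ : Cfsg.IrrCharacter G) (ψ : Cfsg.IrrCharacter H), Odd (mult H.subtype χ ψ) →
      classInner ((χ : G → ℂ) ∘ H.subtype) (ψ : H → ℂ) ≠ 0 := fun χ ψ ho => by
    rw [classInner_eq_mult]; exact Nat.cast_ne_zero.mpr ho.pos.ne'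
  -- every constituent of an invariant character of `H` on `L` is invariant
  have hconst : ∀ ψ : Cfsg.IrrCharacter H, InvOn φ H (ψ : H → ℂ) →
      ∃ ϕ : Cfsg.IrrCharacter L, InvOn φ L (ϕ : L → ℂ) ∧
        classInner (fun l : L => (ψ : H → ℂ) ⟨l, hLH l.2⟩) (ϕ : L → ℂ) ≠ 0 := by
    intro ψ hψ
    let eH : L.subgroupOf H ≃* L := Subgroup.subgroupOfEquivOfLe hLH
    obtain ⟨μ, hμ, hμ0⟩ := exists_constituent (isCharacter_res (L.subgroupOf H) (isCharacter_of_isIrr ψ.2))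
      (fun e => irr_one_ne_zero ψ.2 (congrFun e 1))
    have hS := constituent_invariant (restrAut φ H h.stH) (L.subgroupOf H) (fun s n hn => h.stL s _ hn)
      (h.cop.coprime_dvd_right H.card_subgroup_dvd_card)
      (fun x => by
        obtain ⟨l, hl, c, hc, he⟩ := (h.mem_H (x : G)).mp x.2
        exact ⟨⟨l, hLH hl⟩, hl, ⟨c, h.fix_mem_H hc⟩, fun s => Subtype.ext (hc s), Subtype.ext he⟩)
      (χ := ψ) (fun s x => hψ s x _ rfl) (θ := ⟨μ, hμ⟩) hμ0
    refine ⟨⟨μ ∘ eH.symm, isIrr_comp_mulEquiv hμ eH.symm⟩, fun s c c' hc => ?_, ?_⟩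
    · exact hS s (eH.symm c) (eH.symm c') (Subtype.ext hc)
    · rw [show (fun l : L => (ψ : H → ℂ) ⟨l, hLH l.2⟩) =
        (fun n : L.subgroupOf H => (ψ : H → ℂ) n) ∘ eH.symm from rfl, classInner_comp_mulEquiv]
      exact hμ0
  refine ⟨fun χ hχ => ?_, fun ψ hψ => ?_⟩
  · obtain ⟨μ, hμ, hμ0⟩ := exists_constituent (isCharacter_res K (isCharacter_of_isIrr χ.2))
      (fun e => irr_one_ne_zero χ.2 (congrFun e 1))
    obtain ⟨ϕ, hϕS, hϕ⟩ := exists_fixed_constituent h ⟨μ, hμ⟩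
      (constituent_invariant φ K h.stK h.cop h.decomp hχ hμ0)
    have hχL : classInner (fun l : L => (χ : G → ℂ) l) (ϕ : L → ℂ) ≠ 0 :=
      classInner_ne_zero_trans (isCharacter_res K (isCharacter_of_isIrr χ.2)) hμ
        (Subgroup.inclusion h.le) ϕ.2 hμ0 hϕ
    obtain ⟨ψ, hψS, hodd, hu⟩ := (over_phi h ϕ hϕS).1 χ hχ hχL
    -- invariant constituents of `χ` on `L` are conjugate under fixed points
    have key : ∀ ψ' : Cfsg.IrrCharacter H, InvOn φ H (ψ' : H → ℂ) → Odd (mult H.subtype χ ψ') →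
        classInner (fun l : L => (ψ' : H → ℂ) ⟨l, hLH l.2⟩) (ϕ : L → ℂ) ≠ 0 := by
      intro ψ' hψ' ho
      obtain ⟨ϕ', hϕ'S, hϕ'⟩ := hconst ψ' hψ'
      have hχL' : classInner (fun l : L => (χ : G → ℂ) l) (ϕ' : L → ℂ) ≠ 0 :=
        classInner_ne_zero_trans (isCharacter_comp (isCharacter_of_isIrr χ.2) H.subtype) ψ'.2
          (Subgroup.inclusion hLH) ϕ'.2 (hnz χ ψ' ho) hϕ'
      obtain ⟨g, hg⟩ := exists_conj_of_constituents L χ.2 ϕ.2 ϕ'.2 hχL hχL'
      obtain ⟨k, hk, c, hc, rfl⟩ := h.decomp g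
      have hcH := h.fix_mem_H hc
      have h1 : conjFun L k (ϕ : L → ℂ) = conjFun L c⁻¹ (ϕ' : L → ℂ) := by
        rw [← hg, ← conjFun_conjFun, conjFun_inv_conjFun]
      have hinv1 : InvOn φ L (conjFun L k (ϕ : L → ℂ)) := by
        intro s x x' hx
        rw [h1]
        refine hϕ'S s _ _ ?_
        show c⁻¹ * (x' : G) * c⁻¹⁻¹ = φ s (c⁻¹ * (x : G) * c⁻¹⁻¹)
        simp only [map_mul, map_inv, hc, hx, inv_inv]
      have hkT : k ∈ inertia L (ϕ : L → ℂ) :=
        mem_inertia_of_fixed h (le_inertia L (isClassFunction_of_isIrr ϕ.2)) hk fun s => by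
          rw [mem_inertia]
          have h2 : conjFun L (φ s k) (ϕ : L → ℂ) = conjFun L k (ϕ : L → ℂ) := funext fun n => by
            have hn' : φ s⁻¹ (n : G) ∈ L := h.stL s⁻¹ n n.2
            have hss : φ s (φ s⁻¹ (n : G)) = n := by
              rw [← MulAut.mul_apply, ← map_mul, mul_inv_cancel, map_one]; rfl
            rw [hinv1 s ⟨_, hn'⟩ n hss.symm, conjFun_apply, conjFun_apply]
            refine hϕS s ⟨_, (inferInstance : L.Normal).conj_mem _ hn' k⟩ _ ?_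
            show φ s k * (n : G) * (φ s k)⁻¹ = φ s (k * φ s⁻¹ (n : G) * k⁻¹)
            rw [map_mul, map_mul, hss, map_inv]
          rw [← conjFun_conjFun, h2, conjFun_inv_conjFun]
      have h3 : conjFun L c (ϕ : L → ℂ) = ϕ' := by
        rw [← hg, ← conjFun_conjFun, (mem_inertia L).mp hkT]
      rw [← h3, over_conj_C hLH ψ' _ hcH] at hϕ'
      exact hϕ'
    exact ⟨ψ, ⟨hψS, hodd⟩, fun ψ' hψ' => hu ψ' (key ψ' hψ'.1 hψ'.2) hψ'.2⟩
  · obtain ⟨ϕ, hϕS, hϕ⟩ := hconst ψ hψ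
    obtain ⟨χ, hχ, hodd, hu⟩ := (over_phi h ϕ hϕS).2 ψ hψ hϕ
    refine ⟨χ, ⟨hχ, hodd⟩, fun χ' hχ' => hu χ' hχ'.1 ?_ hχ'.2⟩
    exact classInner_ne_zero_trans (isCharacter_comp (isCharacter_of_isIrr χ'.2) H.subtype) ψ.2
      (Subgroup.inclusion hLH) ϕ.2 (hnz χ' ψ hχ'.2) hϕ

end CfsgLib.CharBlocks.OddStep
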